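import Cfsg.Agent.CyclicZ.Like
import Cfsg.Agent.Fg24.Dedekind
import Cfsg.Agent.Invol.Isolated
import Cfsg.Agent.S0205
import Cfsg.Agent.S0215

/-!
# Groups in which the subgroups of a cyclic group of even order have a common normalizer
-/

set_option autoImplicit false

namespace Cfsg.Agent.IIGroups

open Subgroup

universe u

variable {G : Type u} [Group G]

/-- The normalizer hypothesis. -/
def II (G : Type u) [Group G] : Prop :=
  ∀ X : Subgroup G, IsCyclic ↥X → Even (Nat.card ↥X) → ∀ Y : Subgroup G, Y ≤ X → Y ≠ ⊥ →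
    Subgroup.normalizer (X : Set G) = Subgroup.normalizer (Y : Set G)

/-- No nontrivial solvable normal subgroup. -/
def SS (G : Type u) [Group G] : Prop :=
  ∀ N : Subgroup G, N.Normal → Group.IsSolvable ↥N → N = ⊥

theorem ne_one_of_two {t : G} (ht : orderOf t = 2) : t ≠ 1 := fun e => by
  rw [e, orderOf_one] at ht; omega

theorem mul_self_of_two {t : G} (ht : orderOf t = 2) : t * t = 1 := by
  rw [← sq, ← ht]; exact pow_orderOf_eq_one t

theorem inv_of_two {t : G} (ht : orderOf t = 2) : t⁻¹ = t :=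
  inv_eq_of_mul_eq_one_right (mul_self_of_two ht)

theorem two_of_mul_self {t : G} (h : t * t = 1) (h1 : t ≠ 1) : orderOf t = 2 :=
  orderOf_eq_prime (by rw [sq]; exact h) h1

theorem eq_or_one_of_mem_zpowers_two {k y : G} (hk : orderOf k = 2) (hy : y ∈ zpowers k) :
    y = 1 ∨ y = k := by
  obtain ⟨i, rfl⟩ := hy
  rcases Int.emod_two_eq_zero_or_one i with h | h
  · exact Or.inl (by
      show k ^ i = 1
      rw [← zpow_mod_orderOf, hk, Nat.cast_ofNat, h, zpow_zero])
  · exact Or.inr (by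
      show k ^ i = k
      rw [← zpow_mod_orderOf, hk, Nat.cast_ofNat, h, zpow_one])

theorem normalizer_zpowers_two [Finite G] {k : G} (hk : orderOf k = 2) :
    normalizer ((zpowers k : Subgroup G) : Set G) = centralizer ({k} : Set G) := by
  ext g
  rw [mem_centralizer_singleton_iff]
  refine ⟨fun hg => ?_, fun hg => ?_⟩
  · have h1 := (mem_normalizer_iff.1 hg k).1 (mem_zpowers k)
    rcases eq_or_one_of_mem_zpowers_two hk h1 with h | h
    · exact absurd (conj_eq_one_iff.1 h) (ne_one_of_two hk)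
    · exact mul_inv_eq_iff_eq_mul.1 h
  · refine mem_normalizer_fintype fun y hy => ?_
    rw [SetLike.mem_coe] at hy ⊢
    rcases eq_or_one_of_mem_zpowers_two hk hy with rfl | rfl
    · simp
    · rw [hg, mul_inv_cancel_right]; exact mem_zpowers _

variable (h : II G)
include h

theorem II.norm_eq [Finite G] {x y k : G} (hk : orderOf k = 2) (hkx : k ∈ zpowers x)
    (hy : y ∈ zpowers x) (hy1 : y ≠ 1) :
    normalizer ((zpowers y : Subgroup G) : Set G) = centralizer ({k} : Set G) := by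
  have hev : Even (Nat.card (zpowers x)) := even_iff_two_dvd.2 (hk ▸ orderOf_dvd_natCard _ hkx)
  have h1 := h (zpowers x) inferInstance hev (zpowers y) (zpowers_le.2 hy) (by simpa using hy1)
  have h2 := h (zpowers x) inferInstance hev (zpowers k) (zpowers_le.2 hkx)
    (by simpa using ne_one_of_two hk)
  rw [← h1, h2, normalizer_zpowers_two hk]

/-- An element commuting with the involution of `⟨x⟩` normalises `⟨x⟩`. -/
theorem II.conj_mem [Finite G] {x k c : G} (hk : orderOf k = 2) (hkx : k ∈ zpowers x) (hc : Commute c k) :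
    c * x * c⁻¹ ∈ zpowers x := by
  by_cases hx : x = 1
  · subst hx; simp
  have h1 := h.norm_eq hk hkx (mem_zpowers x) hx
  have hc' : c ∈ normalizer ((zpowers x : Subgroup G) : Set G) := by
    rw [h1]; exact mem_centralizer_singleton_iff.2 hc
  exact (mem_normalizer_iff.1 hc' x).1 (mem_zpowers x)

theorem II.norm_odd [Finite G] {x t : G} (ht : orderOf t = 2) (hx : Odd (orderOf x)) (hx1 : x ≠ 1)
    (hxt : Commute x t) :
    normalizer ((zpowers x : Subgroup G) : Set G) = centralizer ({t} : Set G) := by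
  obtain ⟨m, hm⟩ := hx
  have htt := mul_self_of_two ht
  refine h.norm_eq (x := x * t) ht ⟨(orderOf x : ℕ), ?_⟩ ⟨(orderOf x + 1 : ℕ), ?_⟩ hx1
  · show (x * t) ^ ((orderOf x : ℕ) : ℤ) = t
    rw [zpow_natCast, hxt.mul_pow, pow_orderOf_eq_one, one_mul, hm, pow_succ, pow_mul, sq, htt,
      one_pow, one_mul]
  · show (x * t) ^ ((orderOf x + 1 : ℕ) : ℤ) = x
    rw [zpow_natCast, hxt.mul_pow, pow_succ, pow_orderOf_eq_one, one_mul, hm,
      show 2 * m + 1 + 1 = 2 * (m + 1) by ring, pow_mul, sq, htt, one_pow, mul_one]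

theorem II.commute_of_odd [Finite G] {x t g : G} (ht : orderOf t = 2) (hx : Odd (orderOf x)) (hx1 : x ≠ 1)
    (hxt : Commute x t) (hg : Commute g x) : Commute g t := by
  have h1 : g ∈ centralizer ({t} : Set G) := by
    rw [← h.norm_odd ht hx hx1 hxt]
    refine mem_normalizer_fintype fun y hy => ?_
    obtain ⟨i, rfl⟩ := hy
    show g * x ^ i * g⁻¹ ∈ zpowers x
    rw [(hg.zpow_right i).eq, mul_inv_cancel_right]
    exact ⟨i, rfl⟩
  exact mem_centralizer_singleton_iff.1 h1

theorem II.cent_eq [Finite G] {x t u : G} (ht : orderOf t = 2) (hu : orderOf u = 2) (hx : Odd (orderOf x))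
    (hx1 : x ≠ 1) (hxt : Commute x t) (hxu : Commute x u) :
    centralizer ({t} : Set G) = centralizer ({u} : Set G) := by
  rw [← h.norm_odd ht hx hx1 hxt, h.norm_odd hu hx hx1 hxu]

theorem II.conj_mem_odd [Finite G] {x t c : G} (ht : orderOf t = 2) (hx : Odd (orderOf x))
    (hxt : Commute x t) (hc : Commute c t) : c * x * c⁻¹ ∈ zpowers x := by
  by_cases hx1 : x = 1
  · subst hx1; simp
  have hc' : c ∈ normalizer ((zpowers x : Subgroup G) : Set G) := by
    rw [h.norm_odd ht hx hx1 hxt]; exact mem_centralizer_singleton_iff.2 hc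
  exact (mem_normalizer_iff.1 hc' x).1 (mem_zpowers x)

omit h in
/-- Powers of a product with the first factor's cyclic group normalised by the second. -/
theorem exists_mul_pow {x y : G} (hy : ∀ z ∈ zpowers x, y * z * y⁻¹ ∈ zpowers x) (n : ℕ) :
    ∃ z ∈ zpowers x, (x * y) ^ n = z * y ^ n := by
  induction n with
  | zero => exact ⟨1, one_mem _, by simp⟩
  | succ n ih =>
    obtain ⟨z, hz, he⟩ := ih
    refine ⟨x * (y * z * y⁻¹), mul_mem (mem_zpowers x) (hy z hz), ?_⟩
    rw [pow_succ', he, pow_succ']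
    group

omit h in
/-- The elements of odd order centralising `t`. -/
def oddC (t : G) : Subgroup G := Subgroup.closure {x | Commute x t ∧ Odd (orderOf x)}

theorem II.mem_oddC_iff [Finite G] {t x : G} (ht : orderOf t = 2) :
    x ∈ oddC t ↔ Commute x t ∧ Odd (orderOf x) := by
  refine ⟨fun hx => ?_, fun hx => Subgroup.subset_closure hx⟩
  induction hx using Subgroup.closure_induction with
  | mem x hx => exact hx
  | one => exact ⟨Commute.one_left _, by simp⟩
  | mul x y _ _ hx hy =>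
    refine ⟨hx.1.mul_left hy.1, (hx.2.mul hy.2).of_dvd_nat (orderOf_dvd_of_pow_eq_one ?_)⟩
    obtain ⟨z, ⟨i, rfl⟩, he⟩ := exists_mul_pow (x := x) (y := y) (fun z hz => by
      obtain ⟨i, rfl⟩ := hz
      show y * x ^ i * y⁻¹ ∈ zpowers x
      rw [← conj_zpow]
      exact zpow_mem (h.conj_mem_odd ht hx.2 hx.1 hy.1) i) (orderOf y)
    rw [mul_comm, pow_mul, he, pow_orderOf_eq_one, mul_one, ← zpow_natCast, ← zpow_mul, mul_comm,
      zpow_mul, zpow_natCast, pow_orderOf_eq_one, one_zpow]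
  | inv x _ hx => exact ⟨hx.1.inv_left, by rw [orderOf_inv]; exact hx.2⟩

theorem II.oddC_conj [Finite G] {t x c : G} (ht : orderOf t = 2) (hx : x ∈ oddC t) (hc : Commute c t) :
    c * x * c⁻¹ ∈ oddC t :=
  zpowers_le.2 hx (h.conj_mem_odd ht ((h.mem_oddC_iff ht).1 hx).2 ((h.mem_oddC_iff ht).1 hx).1 hc)

omit h in
theorem eq_top_of_primePow [Finite G] (H : Subgroup G)
    (hH : ∀ p : ℕ, p.Prime → ∀ x : G, (∃ k, orderOf x = p ^ k) → x ∈ H) : H = ⊤ := by
  rw [← index_eq_one]
  by_contra hne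
  obtain ⟨p, hp, hpd⟩ := Nat.exists_prime_and_dvd hne
  haveI := Fact.mk hp
  obtain ⟨P⟩ : Nonempty (Sylow p G) := inferInstance
  have hPH : (P : Subgroup G) ≤ H := fun x hx => by
    obtain ⟨k, hk⟩ := IsPGroup.iff_orderOf.1 P.2 ⟨x, hx⟩
    exact hH p hp x ⟨k, by rw [← hk, Subgroup.orderOf_mk]⟩
  exact P.not_dvd_index (hpd.trans (index_dvd_of_le hPH))

omit h in
/-- An odd order group with all cyclic subgroups normal is commutative. -/
theorem comm_of_odd_normal [Finite G] (hodd : Odd (Nat.card G))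
    (hn : ∀ x c : G, c * x * c⁻¹ ∈ zpowers x) (x y : G) : Commute x y := by
  have hall : ∀ H : Subgroup G, H.Normal := fun H =>
    ⟨fun a ha g => zpowers_le.2 ha (hn a g)⟩
  have hpp : ∀ p : ℕ, p.Prime → ∀ a : G, (∃ i, orderOf a = p ^ i) →
      Subgroup.centralizer ({a} : Set G) = ⊤ := by
    intro p hp a ha
    obtain ⟨i, hi⟩ := ha
    refine eq_top_of_primePow _ fun q hq b hb => mem_centralizer_singleton_iff.2 ?_
    obtain ⟨j, hj⟩ := hb
    by_cases hpq : p = q
    · subst hpq
      by_contra hne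
      obtain ⟨h2, u, v, hu, -⟩ := Fg24.Dedekind.exists_quaternion_pair hall hp (j + i) j i b a rfl
        hj.dvd hi.dvd hne
      have : 4 ∣ Nat.card G := hu ▸ orderOf_dvd_natCard u
      exact (Nat.not_even_iff_odd.2 hodd) (even_iff_two_dvd.2 ((show 2 ∣ 4 by norm_num).trans this))
    · exact (Fg24.Dedekind.commute_of_coprime hall (x := b) (y := a) (by
        rw [hi, hj]; exact Nat.Coprime.pow _ _ ((Nat.coprime_primes hq hp).2 (Ne.symm hpq)))).eq
  have hc : Subgroup.center G = ⊤ := eq_top_of_primePow _ fun p hp a ha =>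
    Subgroup.mem_center_iff.2 fun g => mem_centralizer_singleton_iff.1 (hpp p hp a ha ▸ mem_top g)
  exact (Subgroup.mem_center_iff.1 (hc ▸ mem_top y) x)

theorem II.oddC_comm [Finite G] {t x y : G} (ht : orderOf t = 2) (hx : x ∈ oddC t) (hy : y ∈ oddC t) :
    Commute x y := by
  have hodd : Odd (Nat.card (oddC t)) := by
    rw [← Nat.not_even_iff_odd, even_iff_two_dvd]
    intro h2
    haveI := Fact.mk Nat.prime_two
    obtain ⟨a, ha⟩ := exists_prime_orderOf_dvd_card' 2 h2
    have h3 := ((h.mem_oddC_iff ht).1 a.2).2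
    rw [Subgroup.orderOf_coe, ha] at h3
    exact (Nat.not_even_iff_odd.2 h3) even_two
  have h1 := comm_of_odd_normal hodd (fun a c => ?_) (⟨x, hx⟩ : oddC t) ⟨y, hy⟩
  · exact congrArg Subtype.val h1.eq
  · obtain ⟨i, hi⟩ := h.conj_mem_odd ht ((h.mem_oddC_iff ht).1 a.2).2 ((h.mem_oddC_iff ht).1 a.2).1
      ((h.mem_oddC_iff ht).1 c.2).1
    exact ⟨i, Subtype.ext (by
      have hi' : (a : G) ^ i = c * a * (c : G)⁻¹ := hi
      simp only [SubgroupClass.coe_zpow, Subgroup.coe_mul, Subgroup.coe_inv]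
      exact hi')⟩

/-- The centralizer of a central involution of a Sylow subgroup splits. -/
theorem II.decomp [Finite G] {t : G} (ht : orderOf t = 2) (S : Sylow 2 G)
    (hS : ∀ x ∈ (S : Subgroup G), Commute x t) {g : G} (hg : Commute g t) :
    ∃ o ∈ oddC t, ∃ s ∈ (S : Subgroup G), g = o * s := by
  haveI := Fact.mk Nat.prime_two
  set C := centralizer ({t} : Set G) with hC
  have hSC : (S : Subgroup G) ≤ C := fun x hx => mem_centralizer_singleton_iff.2 (hS x hx)
  let O' := (oddC t).subgroupOf C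
  haveI : O'.Normal := ⟨fun a ha c => by
    rw [mem_subgroupOf] at ha ⊢
    exact h.oddC_conj ht ha (mem_centralizer_singleton_iff.1 c.2)⟩
  let S' : Sylow 2 C := S.subtype hSC
  have hq : IsPGroup 2 (C ⧸ O') := by
    intro q
    obtain ⟨c, rfl⟩ := QuotientGroup.mk_surjective q
    obtain ⟨e, m, hm, ho⟩ := Nat.exists_eq_two_pow_mul_odd (orderOf_pos c).ne'
    refine ⟨e, ?_⟩
    rw [← QuotientGroup.mk_pow, QuotientGroup.eq_one_iff, mem_subgroupOf, h.mem_oddC_iff ht]
    refine ⟨mem_centralizer_singleton_iff.1 (c ^ 2 ^ e).2, ?_⟩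
    rw [Subgroup.orderOf_coe, orderOf_pow' c (pow_ne_zero _ two_ne_zero), ho, Nat.gcd_mul_right_left,
      Nat.mul_div_cancel_left _ (pow_pos two_pos _)]
    exact hm
  have htop : O' ⊔ (S' : Subgroup C) = ⊤ := by
    rw [← index_eq_one]
    obtain ⟨j, hj⟩ := IsPGroup.iff_card.1 hq
    rw [← index_eq_card] at hj
    obtain ⟨i, -, hi⟩ := (Nat.dvd_prime_pow Nat.prime_two).1 (hj ▸ index_dvd_of_le (le_sup_left : O' ≤ O' ⊔ (S' : Subgroup C)))
    rcases Nat.eq_zero_or_pos i with h0 | h0
    · rw [hi, h0, pow_zero]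
    · exact absurd ((hi ▸ dvd_pow_self 2 (by omega)).trans (index_dvd_of_le (le_sup_right : (S' : Subgroup C) ≤ O' ⊔ (S' : Subgroup C))))
        S'.not_dvd_index
  obtain ⟨o, ho, s, hs, he⟩ := mem_sup_of_normal_left.1
    (htop ▸ mem_top (⟨g, mem_centralizer_singleton_iff.2 hg⟩ : C))
  exact ⟨o, ho, s, hs, (congrArg Subtype.val he).symm⟩

omit h

theorem SS.of_normal [Finite G] (hss : SS G) (M : Subgroup G) [M.Normal] : SS ↥M := by
  intro N hN hNs
  obtain ⟨R, hR, hRs, hmax⟩ := CyclicZ.exists_radical ↥M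
  have hRn : (R.map M.subtype).Normal := by
    refine ⟨fun a ha g => ?_⟩
    obtain ⟨r, hr, rfl⟩ := ha
    let φ : MulAut M := MulAut.conjNormal g
    have hle : R.map φ.toMonoidHom ≤ R :=
      hmax _ (hR.map _ φ.surjective) (CyclicZ.isSolvable_map _ hRs)
    exact ⟨φ r, hle ⟨r, hr, rfl⟩, by rw [coe_subtype, MulAut.conjNormal_apply]⟩
  have := hss _ hRn (CyclicZ.isSolvable_map _ hRs)
  rw [Subgroup.map_eq_bot_iff_of_injective _ M.subtype_injective] at this
  exact le_bot_iff.1 (this ▸ hmax N hN hNs)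

theorem SS.exists_involution [Finite G] (hss : SS G) (M : Subgroup G) [M.Normal] (hM : M ≠ ⊥) :
    ∃ x ∈ M, orderOf x = 2 := by
  haveI := Fact.mk Nat.prime_two
  have h2 : 2 ∣ Nat.card M := by
    by_contra hodd
    exact hM (hss M inferInstance (S0205.result
      (Nat.not_even_iff_odd.1 fun e => hodd (even_iff_two_dvd.1 e))))
  obtain ⟨a, ha⟩ := exists_prime_orderOf_dvd_card' 2 h2
  exact ⟨a, a.2, by rw [Subgroup.orderOf_coe, ha]⟩

/-- No involution of a Sylow 2-subgroup is alone in its class there. -/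
theorem SS.exists_conj [Finite G] (hss : SS G) (S : Sylow 2 G) {t : G} (ht : orderOf t = 2)
    (htS : t ∈ (S : Subgroup G)) : ∃ g : G, g * t * g⁻¹ ∈ (S : Subgroup G) ∧ g * t * g⁻¹ ≠ t := by
  by_contra hc
  push Not at hc
  obtain ⟨N, hNn, hNodd, hN⟩ := S0215.result S t ht htS hc
  have hN1 := hss N hNn (S0205.result hNodd)
  subst hN1
  have hz : ∀ g : G, g * t * g⁻¹ = t := fun g => by
    have h1 := mem_bot.1 (hN g)
    rw [mul_inv_eq_one, mul_inv_eq_iff_eq_mul] at h1
    rw [← h1, mul_inv_cancel_right]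
  have h1 := hss (zpowers t) ⟨fun y hy g => by
    rcases eq_or_one_of_mem_zpowers_two ht hy with rfl | rfl
    · simp
    · rw [hz]; exact mem_zpowers _⟩ inferInstance
  exact ne_one_of_two ht (zpowers_eq_bot.1 h1)

/-- The Sylow subgroup of a normal subgroup. -/
theorem exists_sylow_normal [Finite G] (S : Sylow 2 G) (N : Subgroup G) [N.Normal] :
    ∃ P : Sylow 2 N, ∀ x : N, x ∈ (P : Subgroup N) ↔ (x : G) ∈ (S : Subgroup G) := by
  haveI := Fact.mk Nat.prime_two
  have hP : IsPGroup 2 ((S : Subgroup G).subgroupOf N) :=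
    S.2.comap_of_injective N.subtype N.subtype_injective
  refine ⟨hP.toSylow fun hd => ?_, fun x => Iff.rfl⟩
  apply S.not_dvd_index
  refine hd.trans ?_
  show (S : Subgroup G).relIndex N ∣ _
  obtain ⟨k, hk⟩ := relIndex_dvd_index_of_normal (H := N) (K := (S : Subgroup G))
  have h1 := relIndex_mul_index (inf_le_right : (S : Subgroup G) ⊓ N ≤ N)
  have h2 := relIndex_mul_index (inf_le_left : (S : Subgroup G) ⊓ N ≤ S)
  rw [inf_relIndex_right] at h1
  rw [inf_comm, inf_relIndex_right, inf_comm] at h2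
  rw [← h2, hk] at h1
  refine Dvd.intro k (Nat.eq_of_mul_eq_mul_left
    (Nat.pos_of_ne_zero (Subgroup.index_ne_zero_of_finite (H := N.subgroupOf (S : Subgroup G)))) ?_)
  calc N.relIndex S * ((S : Subgroup G).relIndex N * k)
      = (S : Subgroup G).relIndex N * (N.relIndex S * k) := by ring
    _ = _ := h1

end Cfsg.Agent.IIGroups
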