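import Cfsg.Agent.IIGroups.Basic
import Mathlib.GroupTheory.Transfer

/-!
# Transfer to an abelian 2-quotient of a Sylow 2-subgroup invariant under fusion
-/

set_option autoImplicit false

namespace Cfsg.Agent.IIGroups

open Subgroup

theorem exists_transfer {G : Type*} [Group G] [Finite G] {Q : Type*} [CommGroup Q] (hQ : IsPGroup 2 Q)
    (S : Sylow 2 G) (φ : ↥(S : Subgroup G) →* Q)
    (hφ : ∀ (x : ↥(S : Subgroup G)) (g : G) (hy : g⁻¹ * (x : G) * g ∈ (S : Subgroup G)), φ ⟨_, hy⟩ = φ x) :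
    ∃ L : Subgroup G, L.Normal ∧ (∀ o : G, Odd (orderOf o) → o ∈ L) ∧
      ∀ x : ↥(S : Subgroup G), (x : G) ∈ L ↔ φ x = 1 := by
  classical
  haveI := Fact.mk Nat.prime_two
  set ψ := MonoidHom.transfer φ with hψ
  refine ⟨ψ.ker, inferInstance, fun o ho => ?_, fun x => ?_⟩
  · rw [MonoidHom.mem_ker]
    obtain ⟨j, hj⟩ := IsPGroup.iff_orderOf.1 hQ (ψ o)
    have h1 : orderOf (ψ o) ∣ orderOf o := orderOf_map_dvd ψ o
    rw [← orderOf_eq_one_iff]
    rcases Nat.eq_zero_or_pos j with rfl | hp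
    · rw [hj, pow_zero]
    · exfalso
      rw [hj] at h1
      exact (Nat.not_even_iff_odd.2 ho) (even_iff_two_dvd.2 ((dvd_pow_self 2 (by omega)).trans h1))
  let : Fintype (Quotient (MulAction.orbitRel (zpowers (x : G)) (G ⧸ (S : Subgroup G)))) :=
    Fintype.ofFinite _
  have hx : ψ x = φ x ^ (S : Subgroup G).index := by
    rw [hψ, MonoidHom.transfer_eq_prod_quotient_orbitRel_zpowers_quot,
      Subgroup.index_eq_sum_minimalPeriod (H := (S : Subgroup G)) (x : G), ← Finset.prod_pow_eq_pow_sum]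
    refine Finset.prod_congr rfl fun q _ => ?_
    rw [← map_pow]
    exact hφ (x ^ _) q.out.out _
  rw [MonoidHom.mem_ker, hx]
  refine ⟨fun h1 => ?_, fun h1 => by rw [h1, one_pow]⟩
  obtain ⟨j, hj⟩ := IsPGroup.iff_orderOf.1 hQ (φ x)
  have hco : Nat.Coprime (orderOf (φ x)) (S : Subgroup G).index :=
    hj ▸ ((Nat.prime_two.coprime_iff_not_dvd).2 S.not_dvd_index).pow_left j
  exact orderOf_eq_one_iff.1 (hco.eq_one_of_dvd (orderOf_dvd_iff_pow_eq_one.2 h1))

end Cfsg.Agent.IIGroups
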