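import Cfsg.Agent.IIGroups.Dihedral
import Cfsg.Agent.IIGroups.Transfer

/-!
# Abelian and generalised dihedral Sylow 2-subgroups
-/

set_option autoImplicit false

namespace Cfsg.Agent.IIGroups

open Subgroup

universe u

variable {G : Type u} [Group G] [Finite G]

theorem two_elt_mem (S : Sylow 2 G) {y : G} (hy : IsPGroup 2 (zpowers y))
    (hn : y ∈ normalizer ((S : Subgroup G) : Set G)) : y ∈ (S : Subgroup G) := by
  have h1 := hy.to_sup_of_normal_right' S.2 (zpowers_le.2 hn)
  exact S.3 h1 le_sup_right ▸ mem_sup_left (mem_zpowers y)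

theorem exists_odd_pow (S : Sylow 2 G) {n : G} (hn : n ∈ normalizer ((S : Subgroup G) : Set G)) :
    ∃ m : ℕ, Odd m ∧ n ^ m ∈ (S : Subgroup G) := by
  haveI := Fact.mk Nat.prime_two
  obtain ⟨e, m, hm, ho⟩ := Nat.exists_eq_two_pow_mul_odd (orderOf_pos n).ne'
  refine ⟨m, hm, two_elt_mem S (IsPGroup.of_card (n := e) ?_) (pow_mem hn m)⟩
  rw [Nat.card_zpowers, orderOf_pow' _ (by obtain ⟨j, hj⟩ := hm; omega), ho, Nat.gcd_mul_left_left,
    Nat.mul_div_cancel _ (by obtain ⟨j, hj⟩ := hm; omega)]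

theorem exists_involution_sylow [Nontrivial G] (hss : SS G) (S : Sylow 2 G) :
    ∃ t ∈ (S : Subgroup G), orderOf t = 2 := by
  haveI := Fact.mk Nat.prime_two
  have h2 : 2 ∣ Nat.card G := by
    by_contra hodd
    have := S0205.result (G := G) (Nat.not_even_iff_odd.1 fun e => hodd (even_iff_two_dvd.1 e))
    exact top_ne_bot (hss ⊤ inferInstance inferInstance)
  have h3 : 2 ∣ Nat.card (S : Subgroup G) :=
    S.dvd_card_of_dvd_card h2
  obtain ⟨a, ha⟩ := exists_prime_orderOf_dvd_card' 2 h3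
  exact ⟨a, a.2, by rw [Subgroup.orderOf_coe, ha]⟩

theorem conj_oddC (h : II G) {t v n : G} (ht : orderOf t = 2) (hv : orderOf v = 2)
    (hC : ∀ g, Commute g t → Commute (n * g * n⁻¹) v) {o : G} (ho : o ∈ oddC t) :
    n * o * n⁻¹ ∈ oddC v := by
  obtain ⟨h1, h2⟩ := (h.mem_oddC_iff ht).1 ho
  exact (h.mem_oddC_iff hv).2 ⟨hC o h1, by rw [Invol.orderOf_conj]; exact h2⟩

/-- A Sylow 2-subgroup which is abelian. -/
theorem II.abelian_case [Nontrivial G] (h : II G) (hss : SS G) (S : Sylow 2 G)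
    (hab : ∀ x ∈ (S : Subgroup G), ∀ y ∈ (S : Subgroup G), Commute x y) : Concl G := by
  classical
  haveI := Fact.mk Nat.prime_two
  have hS2 := S.2
  by_cases hall : ∀ t ∈ (S : Subgroup G), orderOf t = 2 → ∀ x ∈ (S : Subgroup G), Fix t x
  · -- all centralisers of involutions are abelian
    have hcomm : ∀ t ∈ (S : Subgroup G), orderOf t = 2 → ∀ x y, Commute x t → Commute y t → Commute x y := by
      intro t htS ht x y hx hy
      obtain ⟨o, ho, z, hz, rfl⟩ := h.decomp ht S (fun w hw => hab w hw t htS) hx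
      obtain ⟨o', ho', z', hz', rfl⟩ := h.decomp ht S (fun w hw => hab w hw t htS) hy
      exact ((h.oddC_comm ht ho ho').mul_right (hall t htS ht z' hz' o ho).symm).mul_left
        ((hall t htS ht z hz o' ho').mul_right (hab z hz z' hz'))
    obtain ⟨t, htS, ht⟩ := exists_involution_sylow hss S
    have hH := h.suzuki_hyp hss (⊤ : Subgroup G) ht (mem_top t)
      (fun x _ y _ hx hy => hcomm t htS ht x y hx hy)
      (fun u _ hu hut g _ hgu => by
        obtain ⟨o, ho, z, hz, he⟩ := h.decomp ht S (fun w hw => hab w hw t htS) hut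
        obtain ⟨-, huz⟩ := h.invol_decomp ht hS2 hu ho hz (hall t htS ht z hz) he
        exact hcomm u (huz ▸ hz) hu g t hgu hut.symm)
      (by
        obtain ⟨g, hgS, hne⟩ := hss.exists_conj S ht htS
        exact ⟨_, mem_top _, (Invol.orderOf_conj g t).trans ht, hab _ hgS t htS, hne⟩)
    obtain ⟨F, iF, iFF, -, h4, -, ⟨e⟩⟩ := hH.psl fun x hx y hy => Subtype.ext (hcomm t htS ht x y
      (congrArg Subtype.val (mem_centralizer_singleton_iff.1 hx))
      (congrArg Subtype.val (mem_centralizer_singleton_iff.1 hy))).eq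
    exact ⟨F, iF, iFF, by omega, Or.inl ⟨Subgroup.topEquiv.symm.trans e⟩⟩
  push Not at hall
  obtain ⟨t, htS, ht, x0, hx0, hx0f⟩ := hall
  have hSt : ∀ w ∈ (S : Subgroup G), Commute w t := fun w hw => hab w hw t htS
  obtain ⟨o0, ho0, ho01⟩ : ∃ o ∈ oddC t, o ≠ 1 := by
    by_contra hc
    push Not at hc
    exact hx0f fun o ho => hc o ho ▸ Commute.one_right x0
  have ho0' := (h.mem_oddC_iff ht).1 ho0
  have hcentP : ∀ w, orderOf w = 2 → Fix t w → centralizer ({t} : Set G) = centralizer ({w} : Set G) :=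
    fun w hw hf => h.cent_eq ht hw ho0'.2 ho01 ho0'.1 (hf o0 ho0).symm
  have hroot_out : ∀ x ∈ (S : Subgroup G), ∀ r, x * x ≠ 1 → Root x r → ¬ Fix t x → ¬ Fix t r :=
    fun x hx r _ hr hxf hrf => hxf (h.fix_of_root hS2 ht hx (hSt x hx) hr hrf)
  -- elements outside with square inside are involutions
  have hsq : ∀ x ∈ (S : Subgroup G), ¬ Fix t x → Fix t (x * x) → x * x = 1 := by
    intro x hx hxf hxx
    by_contra hb
    obtain ⟨r, -, hr⟩ := exists_root hS2 hx (fun e => hb (by rw [e, mul_one]))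
    refine hroot_out x hx r hb hr hxf ?_
    obtain ⟨i, hi⟩ := (hr.of_sq hS2 hx hb).2
    intro o ho
    rw [← hi]; exact ((hxx o ho)).zpow_left i
  have hinvol : ∀ x ∈ (S : Subgroup G), ¬ Fix t x → Fix t (x * x) → ∀ y ∈ (S : Subgroup G),
      ¬ Fix t y → Fix t (y * y) → Fix t (x * y) := by
    intro x hx hxf hxx y hy hyf hyy o ho
    have hx2 := two_of_mul_self (hsq x hx hxf hxx) fun e => hxf (e ▸ Fix.one t)
    have hy2 := two_of_mul_self (hsq y hy hyf hyy) fun e => hyf (e ▸ Fix.one t)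
    have e1 := h.inverts ht hy2 (hSt y hy) hyf ho
    have e2 := h.inverts ht hx2 (hSt x hx) hxf (inv_mem ho)
    rw [inv_inv] at e2
    show x * y * o = o * (x * y)
    calc x * y * o = x * (y * o * y⁻¹) * y := by group
      _ = (x * o⁻¹ * x⁻¹) * (x * y) := by rw [e1]; group
      _ = o * (x * y) := by rw [e2]
  have hfix2 : ∀ x : G, x * x = 1 → Fix t (x * x) := fun x e => e.symm ▸ Fix.one t
  set NS := normalizer ((S : Subgroup G) : Set G) with hNS
  have hNmem : ∀ n ∈ NS, ∀ x ∈ (S : Subgroup G), n * x * n⁻¹ ∈ (S : Subgroup G) :=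
    fun n hn x hx => (mem_normalizer_iff.1 hn x).1 hx
  by_cases hN : ∀ n ∈ NS, ∀ x ∈ (S : Subgroup G), Fix t x → Fix t (n * x * n⁻¹)
  · -- transfer
    have hA : ∀ (j : ℕ) (x : G), x ∈ (S : Subgroup G) → Fix t (x ^ 2 ^ j) → ∀ n ∈ NS,
        Fix t (n * x * n⁻¹ * x⁻¹) := by
      intro j
      induction j with
      | zero =>
        intro x hx hf n hn
        rw [pow_zero, pow_one] at hf
        exact (hN n hn x hx hf).mul hf.inv
      | succ j ih =>
        intro x hx hf n hn
        set c := n * x * n⁻¹ * x⁻¹ with hc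
        have hcS : c ∈ (S : Subgroup G) := mul_mem (hNmem n hn x hx) (inv_mem hx)
        have hc2 : Fix t (c * c) := by
          have h1 := ih (x * x) (mul_mem hx hx) (by rwa [← sq, ← pow_mul, ← pow_succ']) n hn
          convert h1 using 1
          calc c * c = n * x * n⁻¹ * (x⁻¹ * (n * x * n⁻¹)) * x⁻¹ := by rw [hc]; group
            _ = n * x * n⁻¹ * ((n * x * n⁻¹) * x⁻¹) * x⁻¹ := by
                rw [(hab _ (inv_mem hx) _ (hNmem n hn x hx)).eq]
            _ = n * (x * x) * n⁻¹ * (x * x)⁻¹ := by group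
        by_contra hcf
        have hcc := hsq c hcS hcf hc2
        have hcfix : ∀ n' ∈ NS, Fix t (n' * c * n'⁻¹ * c) := fun n' hn' => by
          refine hinvol _ (hNmem n' hn' c hcS) (fun hf' => hcf ?_) (hfix2 _ ?_) c hcS hcf hc2
          · have := hN n'⁻¹ (inv_mem hn') _ (hNmem n' hn' c hcS) hf'
            rwa [inv_inv, show n'⁻¹ * (n' * c * n'⁻¹) * n' = c by group] at this
          · rw [show n' * c * n'⁻¹ * (n' * c * n'⁻¹) = n' * (c * c) * n'⁻¹ by group, hcc]; group
        have hit : ∀ i : ℕ, Fix t (n ^ i * x * (n ^ i)⁻¹ * x⁻¹ * c ^ i) := by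
          intro i
          induction i with
          | zero => simpa using Fix.one t
          | succ i ihi =>
            have h1 : n ^ (i + 1) * x * (n ^ (i + 1))⁻¹ * x⁻¹ * c ^ (i + 1) =
                (n ^ i * c * (n ^ i)⁻¹) * ((n ^ i * x * (n ^ i)⁻¹ * x⁻¹) * c ^ i) * c := by
              rw [hc, pow_succ n i, pow_succ]; group
            rw [h1]
            have hni := pow_mem hn i
            have hS1 : n ^ i * c * (n ^ i)⁻¹ ∈ (S : Subgroup G) := hNmem _ hni c hcS
            have hS2' : n ^ i * x * (n ^ i)⁻¹ * x⁻¹ * c ^ i ∈ (S : Subgroup G) :=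
              mul_mem (mul_mem (hNmem _ hni x hx) (inv_mem hx)) (pow_mem hcS i)
            rw [(hab _ hS1 _ hS2').eq, mul_assoc]
            exact ihi.mul (hcfix _ hni)
        obtain ⟨m, ⟨i, rfl⟩, hm⟩ := exists_odd_pow S hn
        have h1 := hit (2 * i + 1)
        rw [(hab _ hm _ hx).eq, mul_inv_cancel_right, mul_inv_cancel, one_mul, pow_succ, pow_mul, sq, hcc,
          one_pow, one_mul] at h1
        exact hcf h1
    let P : Subgroup (S : Subgroup G) :=
      { carrier := {x | Fix t (x : G)}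
        one_mem' := Fix.one t
        mul_mem' := fun hx hy => hx.mul hy
        inv_mem' := fun hx => hx.inv }
    haveI : P.Normal := ⟨fun a ha g => by
      have e : g * a * g⁻¹ = a := Subtype.ext (by
        push_cast; rw [(hab _ g.2 _ a.2).eq, mul_inv_cancel_right])
      rw [e]; exact ha⟩
    letI : CommGroup ((S : Subgroup G) ⧸ P) :=
      { (inferInstance : Group ((S : Subgroup G) ⧸ P)) with
        mul_comm := fun a b => by
          obtain ⟨a, rfl⟩ := QuotientGroup.mk_surjective a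
          obtain ⟨b, rfl⟩ := QuotientGroup.mk_surjective b
          exact congrArg QuotientGroup.mk (Subtype.ext (hab _ a.2 _ b.2).eq) }
    obtain ⟨L, hLn, hLodd, hLS⟩ := exists_transfer (hS2.to_quotient P) S (QuotientGroup.mk' P) (by
      intro x g hy
      obtain ⟨n, hn, he⟩ := S.conj_eq_normalizer_conj_of_mem_centralizer (x : G) g
        (mem_centralizer_iff.2 fun y hy' => (hab y hy' x x.2).eq)
        (mem_centralizer_iff.2 fun y hy' => (hab y hy' _ hy).eq)
      obtain ⟨j, hj⟩ := pow_two_order hS2 x.2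
      refine (QuotientGroup.eq).2 ?_
      show Fix t ((g⁻¹ * (x : G) * g)⁻¹ * x)
      have h1 := (hA j x x.2 (by rw [← hj, pow_orderOf_eq_one]; exact Fix.one t) n⁻¹ (inv_mem hn)).inv
      rw [inv_inv, mul_inv_rev, inv_inv, ← he] at h1
      rwa [(hab _ x.2 _ (inv_mem hy)).eq] at h1)
    haveI := hLn
    have hLP : ∀ x, x ∈ (S : Subgroup G) → (x ∈ L ↔ Fix t x) := fun x hx =>
      (hLS ⟨x, hx⟩).trans ((QuotientGroup.eq_one_iff _).trans Iff.rfl)
    have htL : t ∈ L := (hLP t htS).2 (h.fix_self ht)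
    have hdec : ∀ x ∈ L, Commute x t → ∃ o ∈ oddC t, ∃ z ∈ (S : Subgroup G), Fix t z ∧ x = o * z := by
      intro x hxL hx
      obtain ⟨o, ho, z, hz, rfl⟩ := h.decomp ht S hSt hx
      exact ⟨o, ho, z, hz, (hLP z hz).1 ((Subgroup.mul_mem_cancel_left L
        (hLodd o ((h.mem_oddC_iff ht).1 ho).2)).1 hxL), rfl⟩
    refine absurd (h.no_odd_part hss L ht htL ?_ ?_ ?_ ho0 (hLodd o0 ho0'.2)) ho01
    · intro x hxL y hyL hx hy
      obtain ⟨o, ho, z, hz, hzf, rfl⟩ := hdec x hxL hx
      obtain ⟨o', ho', z', hz', hzf', rfl⟩ := hdec y hyL hy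
      exact ((h.oddC_comm ht ho ho').mul_right (hzf' o ho).symm).mul_left
        ((hzf o' ho').mul_right (hab z hz z' hz'))
    · intro u huL hu hut g _ hgu
      obtain ⟨o, ho, z, hz, hzf, he⟩ := hdec u huL hut
      obtain ⟨-, rfl⟩ := h.invol_decomp ht hS2 hu ho hz hzf he
      have h1 : g ∈ centralizer ({u} : Set G) := mem_centralizer_singleton_iff.2 hgu.eq
      rw [← hcentP u hu hzf] at h1
      exact mem_centralizer_singleton_iff.1 h1
    · obtain ⟨g, hgS, hne⟩ := hss.exists_conj S ht htS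
      exact ⟨_, hLn.conj_mem t htL g, (Invol.orderOf_conj g t).trans ht, hSt _ hgS, hne⟩
  push Not at hN
  obtain ⟨n, hn, x1, hx1, hx1f, hx1n⟩ := hN
  have hNP : ∀ w ∈ (S : Subgroup G), orderOf w = 2 → Fix t w → ¬ Fix t (n * w * n⁻¹) := by
    intro w hw hw2 hwf hwn
    have hn2 : orderOf (n * w * n⁻¹) = 2 := (Invol.orderOf_conj n w).trans hw2
    have hC : ∀ g, Commute g t → Commute (n * g * n⁻¹) t := by
      intro g hg
      have h1 : g ∈ centralizer ({w} : Set G) := hcentP w hw2 hwf ▸ mem_centralizer_singleton_iff.2 hg.eq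
      have h2 : n * g * n⁻¹ ∈ centralizer ({n * w * n⁻¹} : Set G) := mem_centralizer_singleton_iff.2
        ((Commute.conj_iff n).2 (mem_centralizer_singleton_iff.1 h1)).eq
      rw [← hcentP _ hn2 hwn] at h2
      exact mem_centralizer_singleton_iff.1 h2
    let f : oddC t → oddC t := fun o => ⟨n * o * n⁻¹, conj_oddC h ht ht hC o.2⟩
    have hsurj := Finite.surjective_of_injective (f := f) fun a b e =>
      Subtype.ext (mul_left_cancel (mul_right_cancel (congrArg Subtype.val e)))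
    apply hx1n
    intro o ho
    obtain ⟨⟨o', ho'⟩, he⟩ := hsurj ⟨o, ho⟩
    have he' : n * o' * n⁻¹ = o := congrArg Subtype.val he
    rw [← he']
    exact (Commute.conj_iff n).2 (hx1f o' ho')
  set v := n * t * n⁻¹ with hv
  have hvS : v ∈ (S : Subgroup G) := hNmem n hn t htS
  have hv2 : orderOf v = 2 := (Invol.orderOf_conj n t).trans ht
  have hvf : ¬ Fix t v := hNP t htS ht (h.fix_self ht)
  have hW : ∀ w ∈ (S : Subgroup G), w * w = 1 → Fix t w → w = 1 ∨ w = t := by
    intro w hw hww hwf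
    by_contra hc
    push Not at hc
    have htw2 : orderOf (t * w) = 2 := two_of_mul_self
      (by rw [show t * w * (t * w) = t * (w * t) * w by group, (hSt w hw).eq,
        show t * (t * w) * w = t * t * (w * w) by group, mul_self_of_two ht, hww, one_mul])
      fun e => hc.2 ((inv_eq_of_mul_eq_one_right e).symm.trans (inv_of_two ht))
    have hn1 := hNP (t * w) (mul_mem htS hw) htw2 ((h.fix_self ht).mul hwf)
    have hn2 := hNP w hw (two_of_mul_self hww hc.1) hwf
    apply hn1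
    rw [show n * (t * w) * n⁻¹ = (n * t * n⁻¹) * (n * w * n⁻¹) by group]
    exact hinvol _ hvS hvf (hfix2 _ (mul_self_of_two hv2)) _ (hNmem n hn w hw) hn2 (hfix2 _ (by
      rw [show n * w * n⁻¹ * (n * w * n⁻¹) = n * (w * w) * n⁻¹ by group, hww]; group))
  by_cases hexp : ∀ x ∈ (S : Subgroup G), x * x = 1
  · -- a four group
    have hz : ∀ z ∈ (S : Subgroup G), z ∉ zpowers t → ¬ Fix t z := fun z hz hzA hzf => hzA (by
      rcases hW z hz (hexp z hz) hzf with e | e <;> rw [e]
      exacts [one_mem _, mem_zpowers t])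
    have hA : ∀ a ∈ zpowers t, a = 1 ∨ a = t := fun a => eq_or_one_of_mem_zpowers_two ht
    obtain ⟨K, D⟩ := h.dconf ht S hSt (zpowers t) (zpowers_le.2 htS)
      (fun x hx y hy => hab x (zpowers_le.2 htS hx) y (zpowers_le.2 htS hy))
      (fun a ha => by rcases hA a ha with rfl | rfl; exacts [Fix.one t, h.fix_self ht])
      (fun z hzS hzA => ⟨hexp z hzS, fun a ha => by
        rw [(hab z hzS a (zpowers_le.2 htS ha)).eq, mul_inv_cancel_right,
          inv_eq_of_mul_eq_one_right (hexp a (zpowers_le.2 htS ha))],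
        fun o ho => h.inverts ht (two_of_mul_self (hexp z hzS) fun e => hzA (e ▸ one_mem _)) (hSt z hzS)
          (hz z hzS hzA) ho⟩)
      (fun z hzS hzA z' hz'S hz'A => by
        rcases hW (z * z') (mul_mem hzS hz'S) (hexp _ (mul_mem hzS hz'S))
          (hinvol z hzS (hz z hzS hzA) (hfix2 _ (hexp z hzS)) z' hz'S (hz z' hz'S hz'A) (hfix2 _ (hexp z' hz'S))) with e | e <;> rw [e]
        exacts [one_mem _, mem_zpowers t])
      (mem_zpowers t) (fun a ha _ => hA a ha) hvS (fun hm => by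
        rcases hA v hm with e | e
        · exact ne_one_of_two hv2 e
        · exact hvf (by rw [e]; exact h.fix_self ht))
    exact D.concl h hss
  exfalso
  push Not at hexp
  obtain ⟨x, hx, hxx⟩ := hexp
  obtain ⟨r, hrS, hr⟩ := exists_root hS2 hx (fun e => hxx (by rw [e, mul_one]))
  have hnroot : ∀ y ∈ (S : Subgroup G), y * y ≠ 1 → ¬ Root y t := by
    intro y hy hyy hyt
    have hy' : n * y * n⁻¹ ∈ (S : Subgroup G) := hNmem n hn y hy
    have hyy' : n * y * n⁻¹ * (n * y * n⁻¹) ≠ 1 := fun e => hyy (by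
      rw [← conj_eq_one_iff (a := n) (b := y * y), ← e]; group)
    refine ho01 (conj_eq_one_iff.1 (h.oddC_root hS2 ht htS hy' hyy' (hyt.conj n) (hSt _ hy') hvf
      (o := n * o0 * n⁻¹) (conj_oddC h ht hv2 (fun g hg => (Commute.conj_iff n).2 hg) ho0)))
  have hrf : ∀ {y k : G}, y ∈ (S : Subgroup G) → y * y ≠ 1 → Root y k → ¬ Fix t k := by
    intro y k hy hyy hk hkf
    rcases hW k ((zpowers_le.2 hy) hk.2) (mul_self_of_two hk.1) hkf with e | e
    · exact ne_one_of_two hk.1 e
    · exact hnroot y hy hyy (e ▸ hk)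
  have huniq : ∀ {y k : G}, y ∈ (S : Subgroup G) → y * y ≠ 1 → Root y k → k = r := by
    intro y k hy hyy hk
    by_contra hne
    have hkS := (zpowers_le.2 hy) hk.2
    obtain ⟨a, haS, hak⟩ := exists_sqrt hS2 hy hyy hk
    obtain ⟨a', ha'S, ha'r⟩ := exists_sqrt hS2 hx hxx hr
    have hsq' : a * a' * (a * a') = k * r := by
      rw [← hak, ← ha'r, show a * a' * (a * a') = a * (a' * a) * a' by group, (hab a' ha'S a haS).eq]
      group
    have hkr : k * r * (k * r) = 1 := by
      rw [show k * r * (k * r) = k * (r * k) * r by group, (hab r hrS k hkS).eq,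
        show k * (k * r) * r = k * k * (r * r) by group, mul_self_of_two hk.1, mul_self_of_two hr.1, one_mul]
    have hkr1 : k * r ≠ 1 := fun e => hne ((eq_inv_of_mul_eq_one_left e).trans (inv_of_two hr.1))
    rcases hW (k * r) (mul_mem hkS hrS) hkr (hinvol k hkS (hrf hy hyy hk) (hfix2 _ (mul_self_of_two hk.1)) r hrS
      (hrf hx hxx hr) (hfix2 _ (mul_self_of_two hr.1))) with e | e
    · exact hkr1 e
    · exact hnroot _ (mul_mem haS ha'S) (hsq' ▸ hkr1) (e ▸ hsq' ▸ root_of_sq (hsq'.symm ▸ hkr1) (hsq'.symm ▸ hkr))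
  have hnr : n * r * n⁻¹ = r := huniq (hNmem n hn x hx) (fun e => hxx (by
    rw [← conj_eq_one_iff (a := n) (b := x * x), ← e]; group)) (hr.conj n)
  obtain ⟨o, ho, z, hz, he⟩ := h.decomp hr.1 S (fun w hw => hab w hw r hrS)
    (show Commute n r from mul_inv_eq_iff_eq_mul.1 hnr)
  rw [h.oddC_root hS2 ht htS hx hxx hr (hSt x hx) (hrf hx hxx hr) ho, one_mul] at he
  apply hvf
  rw [hv, he, (hab z hz t htS).eq, mul_inv_cancel_right]
  exact h.fix_self ht

theorem sl2_four {F : Type*} [Field F] [CharP F 2] (g : Matrix.SpecialLinearGroup (Fin 2) F)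
    (hg : g * g * (g * g) = 1) : g * g = 1 := by
  have h2 : (2 : F) = 0 := CharTwo.two_eq_zero
  set M := (g : Matrix (Fin 2) (Fin 2) F) with hM
  set T := M 0 0 + M 1 1 with hT
  have hd : M 0 0 * M 1 1 - M 0 1 * M 1 0 = 1 := by rw [← Matrix.det_fin_two]; exact g.2
  have hsq : M * M = T • M + 1 := by
    ext i j
    fin_cases i <;> fin_cases j <;>
      simp [Matrix.mul_apply, Fin.sum_univ_two, hT]
    · linear_combination (-1 : F) * hd + ((0 : F) - 1) * h2
    · ring
    · ring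
    · linear_combination (-1 : F) * hd + ((0 : F) - 1) * h2
  have hM4 : M * M * (M * M) = 1 := by
    have := congrArg Subtype.val hg
    simpa [Matrix.SpecialLinearGroup.coe_mul] using this
  have h4 : (T * T) • (M * M) = 0 := by
    have e : M * M * (M * M) = (T * T) • (M * M) + 1 + (2 : F) • (T • M) := by
      rw [hsq]
      simp only [add_mul, mul_add, smul_mul_assoc, mul_smul_comm, mul_one, one_mul, smul_smul]
      rw [hsq]
      module
    rw [hM4, h2, zero_smul, add_zero] at e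
    have := add_right_cancel ((zero_add (1 : Matrix (Fin 2) (Fin 2) F)).trans e)
    exact this.symm
  have hT0 : T = 0 := by
    have h5 := congrArg (fun X => X * (M * M)) h4
    simp only [smul_mul_assoc, zero_mul, hM4] at h5
    have := congrFun (congrFun h5 0) 0
    simpa using this
  apply Subtype.ext
  show (g : Matrix (Fin 2) (Fin 2) F) * (g : Matrix (Fin 2) (Fin 2) F) = 1
  rw [← hM, hsq, hT0, zero_smul, zero_add]

/-- A generalised dihedral Sylow 2-subgroup. -/
theorem II.genDih_case (h : II G) (hss : SS G) (S : Sylow 2 G) {A : Subgroup G}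
    (hA : GenDih (S : Subgroup G) A) {y0 : G} (hy0 : y0 ∈ (S : Subgroup G)) (hy0A : y0 ∉ A) : Concl G := by
  classical
  haveI := Fact.mk Nat.prime_two
  have hS2 := S.2
  obtain ⟨a0, ha0, ha0b⟩ := hA.big
  have hy02 : orderOf y0 = 2 := two_of_mul_self (hA.sq y0 hy0 hy0A) fun e => hy0A (e ▸ one_mem A)
  have hcen : ∀ t ∈ A, t * t = 1 → ∀ y ∈ (S : Subgroup G), Commute y t := by
    intro t ht htt y hy
    by_cases hyA : y ∈ A
    · exact hA.comm y hyA t ht
    · have := hA.inv y hy hyA t ht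
      rw [inv_eq_of_mul_eq_one_right htt] at this
      exact mul_inv_eq_iff_eq_mul.1 this
  have hbigA : ∀ y ∈ (S : Subgroup G), y * y ≠ 1 → y ∈ A := fun y hy hyy => by
    by_contra hyA; exact hyy (hA.sq y hy hyA)
  -- `A` centralises the odd parts
  have hfix : ∀ t ∈ A, orderOf t = 2 → ∀ a ∈ A, Fix t a := by
    intro t htA ht a ha
    have hct := fun y hy => hcen t htA (mul_self_of_two ht) y hy
    have hbig : ∀ b ∈ A, b * b ≠ 1 → Fix t b := by
      intro b hb hbb
      have hbS := hA.le hb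
      obtain ⟨r, -, hr⟩ := exists_root hS2 hbS (fun e => hbb (by rw [e, mul_one]))
      refine h.fix_of_root hS2 ht hbS (hct b hbS) hr fun o ho => ?_
      obtain ⟨i, hi⟩ := (hr.of_sq hS2 hbS hbb).2
      rw [← hi]
      refine Commute.zpow_left ?_ i
      -- squares are commutators of elements acting by powers
      obtain ⟨hot, hodd⟩ := (h.mem_oddC_iff ht).1 ho
      obtain ⟨j, hj⟩ := h.conj_mem_odd ht hodd hot (hct b hbS)
      obtain ⟨l, hl⟩ := h.conj_mem_odd ht hodd hot (hct y0 hy0)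
      have hj' : o ^ j = b * o * b⁻¹ := hj
      have hl' : o ^ l = y0 * o * y0⁻¹ := hl
      have hkey : y0 * (b * o * b⁻¹) * y0⁻¹ = b * (y0 * o * y0⁻¹) * b⁻¹ := by
        rw [← hj', ← hl', ← conj_zpow, ← conj_zpow, ← hl', ← hj', ← zpow_mul, ← zpow_mul, mul_comm]
      have hyb := hA.inv y0 hy0 hy0A b hb
      have h1 : b * b * (y0 * o * y0⁻¹) * (b * b)⁻¹ = y0 * o * y0⁻¹ := by
        have h2 : y0 * (b * o * b⁻¹) * y0⁻¹ = b⁻¹ * (y0 * o * y0⁻¹) * b := by
          rw [show y0 * (b * o * b⁻¹) * y0⁻¹ = (y0 * b * y0⁻¹) * (y0 * o * y0⁻¹) * (y0 * b * y0⁻¹)⁻¹ by group,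
            hyb, inv_inv]
        have h3 := hkey.symm.trans h2
        calc b * b * (y0 * o * y0⁻¹) * (b * b)⁻¹ = b * (b * (y0 * o * y0⁻¹) * b⁻¹) * b⁻¹ := by group
          _ = b * (b⁻¹ * (y0 * o * y0⁻¹) * b) * b⁻¹ := by rw [h3]
          _ = y0 * o * y0⁻¹ := by group
      have h4 := (Commute.conj_iff y0⁻¹).2 (show Commute (b * b) (y0 * o * y0⁻¹) from mul_inv_eq_iff_eq_mul.1 h1)
      rw [inv_inv, show y0⁻¹ * (y0 * o * y0⁻¹) * y0 = o by group] at h4
      have h5 : y0⁻¹ * (b * b) * y0 = (b * b)⁻¹ := by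
        rw [inv_of_two hy02]
        have := hA.inv y0 hy0 hy0A _ (mul_mem hb hb)
        rwa [inv_of_two hy02] at this
      rw [h5] at h4
      simpa using h4.inv_left
    by_cases haa : a * a = 1
    · have h1 : a * a0 * (a * a0) ≠ 1 := by
        rw [show a * a0 * (a * a0) = a * (a0 * a) * a0 by group, (hA.comm a0 ha0 a ha).eq,
          show a * (a * a0) * a0 = a * a * (a0 * a0) by group, haa, one_mul]
        exact ha0b
      have := (hbig _ (mul_mem ha ha0) h1).mul (hbig a0 ha0 ha0b).inv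
      rwa [mul_inv_cancel_right] at this
    · exact hbig a ha haa
  have hinv : ∀ t ∈ A, orderOf t = 2 → ∀ y ∈ (S : Subgroup G), y ∉ A → ∀ o ∈ oddC t, y * o * y⁻¹ = o⁻¹ := by
    intro t htA ht y hy hyA o ho
    by_cases ho1 : o = 1
    · subst ho1; simp
    have hy2 := two_of_mul_self (hA.sq y hy hyA) fun e => hyA (e ▸ one_mem A)
    have hct := fun w hw => hcen t htA (mul_self_of_two ht) w hw
    refine h.inverts ht hy2 (hct y hy) (fun hf => ?_) ho
    obtain ⟨hot, hodd⟩ := (h.mem_oddC_iff ht).1 ho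
    have h1 : a0 ∈ centralizer ({t} : Set G) := mem_centralizer_singleton_iff.2 (hct a0 (hA.le ha0)).eq
    rw [h.cent_eq ht hy2 hodd ho1 hot (hf o ho).symm] at h1
    have h2 := hA.inv y hy hyA a0 ha0
    rw [← (mem_centralizer_singleton_iff.1 h1), mul_inv_cancel_right] at h2
    exact ha0b (by nth_rw 1 [h2]; exact inv_mul_cancel a0)
  by_cases hone : ∀ a ∈ A, ∀ b ∈ A, orderOf a = 2 → orderOf b = 2 → a = b
  · -- `A` is cyclic
    obtain ⟨t, -, ht⟩ := exists_root hS2 (hA.le ha0) (fun e => ha0b (by rw [e, mul_one]))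
    have htA : t ∈ A := (zpowers_le.2 ha0) ht.2
    obtain ⟨K, D⟩ := h.dconf ht.1 S (hcen t htA (mul_self_of_two ht.1)) A hA.le hA.comm (hfix t htA ht.1)
      (fun z hz hzA => ⟨hA.sq z hz hzA, hA.inv z hz hzA, hinv t htA ht.1 z hz hzA⟩) hA.mul htA
      (fun a ha haa => by
        by_cases ha1 : a = 1
        · exact Or.inl ha1
        · exact Or.inr (hone a ha t htA (two_of_mul_self haa ha1) ht.1)) hy0 hy0A
    exact D.concl h hss
  exfalso
  push Not at hone
  obtain ⟨t, htA, t', ht'A, ht, ht', htt'⟩ := hone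
  -- all involutions of `A` have the same centralizer
  have hdecA : ∀ w ∈ A, orderOf w = 2 → ∀ g, Commute g w → ∃ o ∈ oddC w, ∃ z ∈ (S : Subgroup G), g = o * z :=
    fun w hw hw2 g hg => h.decomp hw2 S (hcen w hw (mul_self_of_two hw2)) hg
  have hsame : ∀ w ∈ A, orderOf w = 2 → ∀ w' ∈ A, orderOf w' = 2 → ∀ g, Commute g w → Commute g w' := by
    intro w hw hw2 w' hw' hw'2 g hg
    obtain ⟨o, ho, z, hz, rfl⟩ := hdecA w hw hw2 g hg
    exact ((hfix w hw hw2 w' hw' o ho).symm).mul_left (hcen w' hw' (mul_self_of_two hw'2) z hz)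
  have hSt := hcen t htA (mul_self_of_two ht)
  -- no involution outside `A` is fused into `A`
  have hnf : ∀ g w, w ∈ A → orderOf w = 2 → g * w * g⁻¹ ∈ (S : Subgroup G) → g * w * g⁻¹ ∈ A := by
    intro g w hw hw2 hs
    by_contra hsA
    set s := g * w * g⁻¹ with hsdef
    have hback : ∀ u ∈ A, orderOf u = 2 → Commute (g⁻¹ * u * g) t := by
      intro u hu hu2
      refine hsame w hw hw2 t htA ht _ ?_
      have h1 := (Commute.conj_iff g⁻¹).2 (hcen u hu (mul_self_of_two hu2) s hs).symm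
      rwa [inv_inv, hsdef, show g⁻¹ * (g * w * g⁻¹) * g = w by group] at h1
    have hbad : ∀ u ∈ A, orderOf u = 2 → ∀ o ∈ oddC t, ∀ z ∈ A, g⁻¹ * u * g = o * z → False := by
      intro u hu hu2 o ho z hz he
      have hu' : orderOf (g⁻¹ * u * g) = 2 := by
        rw [show g⁻¹ * u * g = g⁻¹ * u * g⁻¹⁻¹ by group, Invol.orderOf_conj, hu2]
      obtain ⟨-, he'⟩ := h.invol_decomp ht hS2 hu' ho (hA.le hz) (hfix t htA ht z hz) he
      have hu'A : g⁻¹ * u * g ∈ A := he' ▸ hz
      have h1 := hsame u hu hu2 t htA ht a0 (hcen u hu (mul_self_of_two hu2) a0 (hA.le ha0))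
      -- `g⁻¹ a0 g` centralises `g⁻¹ u g`, hence `w`
      have h2 : Commute (g⁻¹ * a0 * g) (g⁻¹ * u * g) := by
        have := (Commute.conj_iff g⁻¹).2 (hcen u hu (mul_self_of_two hu2) a0 (hA.le ha0))
        rwa [inv_inv] at this
      have h3 := (Commute.conj_iff g).2 (hsame _ hu'A hu' w hw hw2 _ h2)
      rw [show g * (g⁻¹ * a0 * g) * g⁻¹ = a0 by group, ← hsdef] at h3
      have h4 := hA.inv s hs hsA a0 ha0
      rw [h3.symm.eq, mul_inv_cancel_right] at h4
      exact ha0b (by nth_rw 1 [h4]; exact inv_mul_cancel a0)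
    obtain ⟨o, ho, z, hz, he⟩ := hdecA t htA ht _ (hback t htA ht)
    obtain ⟨o', ho', z', hz', he'⟩ := hdecA t htA ht _ (hback t' ht'A ht')
    by_cases hzA : z ∈ A
    · exact hbad t htA ht o ho z hzA he
    by_cases hz'A : z' ∈ A
    · exact hbad t' ht'A ht' o' ho' z' hz'A he'
    have hc := hA.comm t htA t' ht'A
    refine hbad (t * t') (mul_mem htA ht'A) (two_of_mul_self (by
      rw [show t * t' * (t * t') = t * (t' * t) * t' by group, ← hc.eq,
        show t * (t * t') * t' = t * t * (t' * t') by group, mul_self_of_two ht, mul_self_of_two ht', one_mul])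
      fun e => htt' ((eq_inv_of_mul_eq_one_left e).trans (inv_of_two ht')))
      (o * (z * o' * z⁻¹)) (mul_mem ho (h.oddC_conj ht ho' (hSt z hz))) (z * z')
      (hA.mul z hz hzA z' hz' hz'A) ?_
    calc g⁻¹ * (t * t') * g = (g⁻¹ * t * g) * (g⁻¹ * t' * g) := by group
      _ = o * z * (o' * z') := by rw [he, he']
      _ = _ := by group
  have hnf' : ∀ g x, x ∈ A → g * x * g⁻¹ ∈ (S : Subgroup G) → g * x * g⁻¹ ∈ A := by
    intro g x hx hs
    by_cases hxx : x * x = 1
    · by_cases hx1 : x = 1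
      · subst hx1; simp
      · exact hnf g x hx (two_of_mul_self hxx hx1) hs
    · exact hbigA _ hs fun e => hxx (by
        rw [← conj_eq_one_iff (a := g) (b := x * x), ← e]; group)
  -- transfer
  let P : Subgroup (S : Subgroup G) := A.subgroupOf (S : Subgroup G)
  have hmulA : ∀ x y, x ∈ (S : Subgroup G) → y ∈ (S : Subgroup G) → x * y * (y * x)⁻¹ ∈ A := by
    intro x y hx hy
    by_cases hxA : x ∈ A <;> by_cases hyA : y ∈ A
    · exact mul_mem (mul_mem hxA hyA) (inv_mem (mul_mem hyA hxA))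
    · rw [show x * y * (y * x)⁻¹ = x * (y * x⁻¹ * y⁻¹) by group, hA.inv y hy hyA _ (inv_mem hxA), inv_inv]
      exact mul_mem hxA hxA
    · rw [show x * y * (y * x)⁻¹ = (x * y * x⁻¹) * y⁻¹ by group, hA.inv x hx hxA _ hyA]
      exact mul_mem (inv_mem hyA) (inv_mem hyA)
    · exact mul_mem (hA.mul x hx hxA y hy hyA) (inv_mem (hA.mul y hy hyA x hx hxA))
  haveI : P.Normal := ⟨fun a ha g => by
    rw [mem_subgroupOf] at ha ⊢
    push_cast
    by_cases hg : (g : G) ∈ A
    · exact mul_mem (mul_mem hg ha) (inv_mem hg)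
    · rw [hA.inv g g.2 hg a ha]; exact inv_mem ha⟩
  letI : CommGroup ((S : Subgroup G) ⧸ P) :=
    { (inferInstance : Group ((S : Subgroup G) ⧸ P)) with
      mul_comm := fun a b => by
        obtain ⟨a, rfl⟩ := QuotientGroup.mk_surjective a
        obtain ⟨b, rfl⟩ := QuotientGroup.mk_surjective b
        rw [← QuotientGroup.mk_mul, ← QuotientGroup.mk_mul, QuotientGroup.eq, mem_subgroupOf]
        push_cast
        have := hmulA b⁻¹ a⁻¹ (inv_mem b.2) (inv_mem a.2)
        rwa [show (b : G)⁻¹ * (a : G)⁻¹ * ((a : G)⁻¹ * (b : G)⁻¹)⁻¹ = ((a : G) * b)⁻¹ * ((b : G) * a) by group] at this }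
  obtain ⟨L, hLn, hLodd, hLS⟩ := exists_transfer (hS2.to_quotient P) S (QuotientGroup.mk' P) (by
    intro x g hy
    refine (QuotientGroup.eq).2 ?_
    rw [mem_subgroupOf]
    push_cast
    set y := g⁻¹ * (x : G) * g with hydef
    have e1 : g * y * g⁻¹ = x := by rw [hydef]; group
    by_cases hxA : (x : G) ∈ A
    · have hyA : y ∈ A := by
        have h1 := hnf' g⁻¹ x hxA (by rw [inv_inv]; exact hy)
        rwa [inv_inv] at h1
      exact mul_mem (inv_mem hyA) hxA
    · have hyA : y ∉ A := fun hm => hxA (e1 ▸ hnf' g y hm (e1.symm ▸ x.2))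
      rw [inv_eq_of_mul_eq_one_right (hA.sq y hy hyA)]
      exact hA.mul y hy hyA x x.2 hxA)
  haveI := hLn
  have hLP : ∀ x, x ∈ (S : Subgroup G) → (x ∈ L ↔ x ∈ A) := fun x hx =>
    (hLS ⟨x, hx⟩).trans ((QuotientGroup.eq_one_iff _).trans mem_subgroupOf)
  have htL : t ∈ L := (hLP t (hA.le htA)).2 htA
  have hdec : ∀ x ∈ L, Commute x t → ∃ o ∈ oddC t, ∃ z ∈ A, x = o * z := by
    intro x hxL hx
    obtain ⟨o, ho, z, hz, rfl⟩ := hdecA t htA ht x hx
    exact ⟨o, ho, z, (hLP z hz).1 ((Subgroup.mul_mem_cancel_left L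
      (hLodd o ((h.mem_oddC_iff ht).1 ho).2)).1 hxL), rfl⟩
  have hab : ∀ x ∈ L, ∀ y ∈ L, Commute x t → Commute y t → Commute x y := by
    intro x hxL y hyL hx hy
    obtain ⟨o, ho, z, hz, rfl⟩ := hdec x hxL hx
    obtain ⟨o', ho', z', hz', rfl⟩ := hdec y hyL hy
    exact ((h.oddC_comm ht ho ho').mul_right (hfix t htA ht z' hz' o ho).symm).mul_left
      ((hfix t htA ht z hz o' ho').mul_right (hA.comm z hz z' hz'))
  have hH := h.suzuki_hyp hss L ht htL hab (fun u huL hu hut g _ hgu => by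
      obtain ⟨o, ho, z, hz, he⟩ := hdec u huL hut
      obtain ⟨-, rfl⟩ := h.invol_decomp ht hS2 hu ho (hA.le hz) (hfix t htA ht z hz) he
      exact hsame u hz hu t htA ht g hgu)
    ⟨t', (hLP t' (hA.le ht'A)).2 ht'A, ht', hSt t' (hA.le ht'A), htt'.symm⟩
  obtain ⟨F, iF, iFF, iC, -, ⟨e⟩, -⟩ := hH.psl fun x hx y hy => Subtype.ext (hab x x.2 y y.2
    (congrArg Subtype.val (mem_centralizer_singleton_iff.1 hx))
    (congrArg Subtype.val (mem_centralizer_singleton_iff.1 hy))).eq
  obtain ⟨r, -, hr⟩ := exists_root hS2 (hA.le ha0) (fun e' => ha0b (by rw [e', mul_one]))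
  obtain ⟨a, haS, har⟩ := exists_sqrt hS2 (hA.le ha0) ha0b hr
  have haa : a * a ≠ 1 := by rw [har]; exact ne_one_of_two hr.1
  have haL : a ∈ L := (hLP a haS).2 (hbigA a haS haa)
  have h4 : (⟨a, haL⟩ : L) * ⟨a, haL⟩ * (⟨a, haL⟩ * ⟨a, haL⟩) = 1 := Subtype.ext (by
    push_cast; rw [har]; exact mul_self_of_two hr.1)
  have h5 := sl2_four (e ⟨a, haL⟩) (by rw [← map_mul, ← map_mul, h4, map_one])
  rw [← map_mul, ← map_one e] at h5
  exact haa (congrArg Subtype.val (e.injective h5))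

theorem II.main [Nontrivial G] (h : II G) (hss : SS G) : Concl G := by
  haveI := Fact.mk Nat.prime_two
  obtain ⟨S⟩ : Nonempty (Sylow 2 G) := inferInstance
  rcases h.shape hss S with hab | ⟨A, hA⟩
  · exact h.abelian_case hss S hab
  by_cases hSA : (S : Subgroup G) ≤ A
  · exact h.abelian_case hss S fun x hx y hy => hA.comm x (hSA hx) y (hSA hy)
  · obtain ⟨y, hy, hyA⟩ := SetLike.not_le_iff_exists.1 hSA
    exact h.genDih_case hss S hA hy hyA

end Cfsg.Agent.IIGroups
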