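import Cfsg.Agent.AutPSL.Two
import Cfsg.Agent.AutPSL.Twisted
import Cfsg.Agent.AutPSL.Centralizers
import Cfsg.Agent.S0265

/-!
# A degree two extension of `PSL(2, q)` in which the odd elements centralising an involution commute
-/

set_option autoImplicit false

namespace Cfsg.Agent.IIGroups

open Cfsg.Agent.AutPSL Subgroup

/-- The action of a group on a normal subgroup transported along an isomorphism. -/
noncomputable def toAut {G : Type*} [Group G] (M : Subgroup G) [M.Normal] {P : Type*} [Group P]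
    (e : ↥M ≃* P) : G →* MulAut P where
  toFun g := (e.symm.trans (MulAut.conjNormal g)).trans e
  map_one' := MulEquiv.ext fun x => by simp
  map_mul' a b := MulEquiv.ext fun x => by simp [MulAut.mul_apply]

theorem toAut_apply {G : Type*} [Group G] (M : Subgroup G) [M.Normal] {P : Type*} [Group P]
    (e : ↥M ≃* P) (g : G) (x : P) : toAut M e g x = e (MulAut.conjNormal g (e.symm x)) := rfl

theorem mkP_xu_ne {F : Type*} [Field F] [Fintype F] (hodd : Odd (Fintype.card F)) :
    ¬ Commute (mkP (xu (1 : F))) (mkP (xl (1 : F))) := by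
  intro h
  have h1 : (xl (1 : F))⁻¹ * (xu 1)⁻¹ * xl 1 * xu 1 ∈ Subgroup.center (SLn 2 F) := by
    rw [← mkP_eq_one_iff, map_mul, map_mul, map_mul, map_inv, map_inv, mul_assoc, mul_assoc, ← h.eq]
    group
  set c := (xl (1 : F))⁻¹ * (xu 1)⁻¹ * xl 1 * xu 1 with hc
  obtain ⟨r, hr, hr'⟩ := Matrix.SpecialLinearGroup.mem_center_iff.1 h1
  have hcc : xu (1 : F) * xl 1 * c = xl 1 * xu 1 := by rw [hc]; group
  have h2 := congrArg (fun z : SLn 2 F => (z : Matrix (Fin 2) (Fin 2) F)) hcc
  simp only [Matrix.SpecialLinearGroup.coe_mul, xu_coe, xl_coe, ← hr'] at h2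
  have e00 := congrFun (congrFun h2 0) 0
  have e01 := congrFun (congrFun h2 0) 1
  simp [Matrix.mul_apply, Matrix.diagonal, Fin.sum_univ_two] at e00 e01
  have h20 : (2 : F) = 1 + 0 + 1 := by ring
  have : (2 : F) = 1 := by
    rw [e01] at e00
    linear_combination e00
  exact one_ne_zero (show (1 : F) = 0 by linear_combination this)

theorem card_pgl {F : Type*} [Field F] [Fintype F] (hodd : Odd (Fintype.card F)) :
    Nat.card (Matrix.ProjGenLinGroup (Fin 2) F) = 2 * Nat.card (PSLn 2 F) := by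
  rw [S0265.result 2, Subgroup.card_eq_card_quotient_mul_card_subgroup (Subgroup.center (SLn 2 F))]
  rw [mul_comm]
  congr 1
  rw [Nat.card_congr (Matrix.SpecialLinearGroup.center_equiv_rootsOfUnity' (0 : Fin 2)).toEquiv]
  simp only [Fintype.card_fin]
  have h2 : (2 : F) ≠ 0 := by
    intro h0
    have hchar : ringChar F ∣ 2 := (ringChar.spec F 2).1 (by exact_mod_cast h0)
    have : ringChar F = 2 := (Nat.prime_two.eq_one_or_self_of_dvd _ hchar).resolve_left
      (CharP.ringChar_ne_one (R := F))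
    exact (Nat.not_even_iff_odd.2 hodd) (Nat.even_iff.2 (FiniteField.even_card_iff_char_two.1 this))
  exact Nat.le_antisymm (card_rootsOfUnity F 2)
    (Finite.one_lt_card_iff_nontrivial.2 ⟨⟨(-1 : Fˣ), by rw [mem_rootsOfUnity]; exact Units.ext (by simp)⟩,
      1, fun e => by
        have h1 : (-1 : F) = 1 := congrArg (fun z : rootsOfUnity 2 F => ((z : Fˣ) : F)) e
        exact h2 (by linear_combination -h1)⟩)

/-- The recognition of `PGL(2, q)`. -/
theorem pgl_recognition {G : Type*} [Group G] [Finite G] (M : Subgroup G) [M.Normal]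
    (hM : M.index = 2) {F : Type} [Field F] [Fintype F] (hodd : Odd (Fintype.card F))
    (e : ↥M ≃* Matrix.ProjectiveSpecialLinearGroup (Fin 2) F)
    (hC : Subgroup.centralizer (M : Set G) = ⊥) {u : G} (hu : u ∉ M) (hu2 : orderOf u = 2)
    (hcom : ∀ x y : G, Commute x u → Commute y u → Odd (orderOf x) → Odd (orderOf y) → Commute x y) :
    Nonempty (G ≃* Matrix.ProjGenLinGroup (Fin 2) F) := by
  classical
  obtain ⟨k, hp, hcard⟩ := FiniteField.card F (ringChar F)
  set p := ringChar F
  haveI : Fact p.Prime := ⟨hp⟩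
  have hpodd : Odd p := by
    rcases hp.eq_two_or_odd' with h | h
    · exfalso
      rw [hcard, h] at hodd
      exact (Nat.not_even_iff_odd.2 hodd) (Nat.even_pow.2 ⟨even_two, k.ne_zero⟩)
    · exact h
  set j := toAut M e with hj
  have hinj : Function.Injective j := by
    refine (injective_iff_map_eq_one j).2 fun g hg => ?_
    have hgC : g ∈ Subgroup.centralizer (M : Set G) := by
      rw [Subgroup.mem_centralizer_iff]
      intro m hm
      have h1 := MulEquiv.congr_fun hg (e ⟨m, hm⟩)
      rw [hj, toAut_apply, MulEquiv.symm_apply_apply, MulAut.one_apply] at h1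
      have h2 : g * m * g⁻¹ = m := by
        have := congrArg Subtype.val (e.injective h1)
        rwa [MulAut.conjNormal_apply] at this
      exact (mul_inv_eq_iff_eq_mul.1 h2).symm
    rwa [hC, Subgroup.mem_bot] at hgC
  have hinner : ∀ m : M, j m ∈ inndiagPSL 2 F := by
    intro m
    refine inn_le_inndiag ⟨e m, MulEquiv.ext fun x => ?_⟩
    rw [hj, toAut_apply, MulAut.conj_apply]
    have : MulAut.conjNormal (m : G) (e.symm x) = m * e.symm x * m⁻¹ :=
      Subtype.ext (by rw [MulAut.conjNormal_apply]; rfl)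
    rw [this, map_mul, map_mul, map_inv, MulEquiv.apply_symm_apply]
  obtain ⟨g, σ, hgσ⟩ := exists_decomp_two p (j u)
  have hsq : twN σ g 2 ∈ Subgroup.center (GL (Fin 2) F) ∧ σ ^ 2 = 1 := by
    have h1 : conjA (twN σ g 2) * fieldA (σ ^ 2) = (1 : MulAut (PSLn 2 F)) := by
      rw [← conjA_field_pow, ← hgσ, ← map_pow, orderOf_dvd_iff_pow_eq_one.1 hu2.dvd, map_one]
    obtain ⟨a, b⟩ := eq_one_of_conj_field p le_rfl h1
    exact ⟨b, a⟩
  have hσ : σ = 1 := by
    by_contra hne
    have hσ2 : orderOf σ = 2 := orderOf_eq_prime hsq.2 hne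
    obtain ⟨a, h, hgh⟩ := exists_coboundary two_pos hσ2 g hsq.1
    have hconj : j u = conjA h * fieldA σ * (conjA h)⁻¹ := by
      rw [hgσ, hgh, map_mul, center_le_ker _ (scalar_mem_center a), one_mul, map_mul, mul_assoc,
        mul_assoc, ← map_inv, ← map_inv, conjA_field σ h⁻¹, map_inv]
    -- images of root elements fixed by the automorphism
    have key : ∀ s : SLn 2 F, fieldSL σ s = s → s ^ p = 1 →
        ∃ m : M, Commute (m : G) u ∧ Odd (orderOf (m : G)) ∧ e m = conjA h (mkP s) := by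
      intro s hs hsp
      refine ⟨e.symm (conjA h (mkP s)), ?_, ?_, e.apply_symm_apply _⟩
      · have h1 : j u (conjA h (mkP s)) = conjA h (mkP s) := by
          rw [hconj, MulAut.mul_apply, MulAut.mul_apply, MulAut.inv_apply_self, fieldA_mkP, hs]
        rw [hj, toAut_apply] at h1
        have h2 := congrArg Subtype.val ((e.eq_symm_apply).2 h1)
        rw [MulAut.conjNormal_apply] at h2
        exact (mul_inv_eq_iff_eq_mul.1 h2).symm
      · refine hpodd.of_dvd_nat (orderOf_dvd_of_pow_eq_one ?_)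
        rw [← SubmonoidClass.coe_pow, ← map_pow, ← map_pow, ← map_pow, hsp, map_one, map_one, map_one,
          OneMemClass.coe_one]
    have hfix : ∀ {i l : Fin 2} (hil : i ≠ l), fieldSL σ (xr hil (1 : F)) = xr hil 1 := fun hil => by
      rw [fieldA_xr, map_one]
    have hxp : ∀ {i l : Fin 2} (hil : i ≠ l), (xr hil (1 : F)) ^ p = 1 := fun hil => by
      simpa using xr_pow p hil (1 : F)
    obtain ⟨m₁, hm₁, ho₁, he₁⟩ := key (xu 1) (hfix _) (hxp _)
    obtain ⟨m₂, hm₂, ho₂, he₂⟩ := key (xl 1) (hfix _) (hxp _)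
    have hc : Commute m₁ m₂ := Subtype.ext (hcom _ _ hm₁ hm₂ ho₁ ho₂).eq
    have := hc.map e.toMonoidHom
    simp only [MulEquiv.coe_toMonoidHom, he₁, he₂] at this
    exact mkP_xu_ne hodd (by simpa using this.map (conjA h)⁻¹.toMonoidHom)
  have hju : j u ∈ inndiagPSL 2 F := by
    rw [inndiagPSL_eq, hgσ, hσ, map_one, mul_one]; exact ⟨g, rfl⟩
  have hrange : j.range ≤ inndiagPSL 2 F := by
    rintro _ ⟨x, rfl⟩
    by_cases hx : x ∈ M
    · exact hinner ⟨x, hx⟩
    · have hxu : x * u ∈ M := (Subgroup.mul_mem_iff_of_index_two hM).2 (iff_of_false hx hu)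
      rw [show x = x * u * u by
        rw [mul_assoc, ← sq, ← hu2, pow_orderOf_eq_one, mul_one], map_mul]
      exact mul_mem (hinner ⟨_, hxu⟩) hju
  let ψ : Matrix.ProjGenLinGroup (Fin 2) F →* MulAut (PSLn 2 F) :=
    QuotientGroup.lift _ (conjA (n := 2) (F := F)) (ker_conjA p le_rfl).ge
  have hψi : Function.Injective ψ := by
    refine (injective_iff_map_eq_one ψ).2 fun x hx => ?_
    obtain ⟨y, rfl⟩ := QuotientGroup.mk_surjective x
    exact (QuotientGroup.eq_one_iff y).2 ((conjA_eq_one_iff p le_rfl).1 hx)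
  have hψr : j.range ≤ ψ.range := hrange.trans (by
    rw [inndiagPSL_eq]; rintro _ ⟨y, rfl⟩; exact ⟨QuotientGroup.mk y, rfl⟩)
  have hjψ : j.range = ψ.range := Subgroup.eq_of_le_of_card_ge hψr (le_of_eq (by
    rw [← Nat.card_congr (MonoidHom.ofInjective hinj).toEquiv,
      ← Nat.card_congr (MonoidHom.ofInjective hψi).toEquiv, card_pgl hodd,
      ← Nat.card_congr e.toEquiv, ← M.card_mul_index, hM, mul_comm]))
  exact ⟨(MonoidHom.ofInjective hinj).trans
    ((MulEquiv.subgroupCongr hjψ).trans (MonoidHom.ofInjective hψi).symm)⟩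

end Cfsg.Agent.IIGroups
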