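import Cfsg.Agent.IIGroups.Local
import Cfsg.Agent.IIGroups.PGL
import Cfsg.Agent.TwoTransfer.Basic
import Cfsg.Agent.BSWAbstract.Recognition
import Cfsg.Agent.Fusion.UniqueInvolution

/-!
# The configuration with dihedral Sylow 2-subgroups
-/

set_option autoImplicit false

namespace Cfsg.Agent.IIGroups

open Subgroup

universe u

variable {G : Type u} [Group G] [Finite G] {S : Sylow 2 G} {K : Subgroup G} {t s : G}

theorem DConf.conj_eq_of_mem (D : DConf S K t s) {g : G} (h : g * t * g⁻¹ ∈ K) : g * t * g⁻¹ = t :=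
  (D.uniq _ h (by
    rw [show g * t * g⁻¹ * (g * t * g⁻¹) = g * (t * t) * g⁻¹ by group, mul_self_of_two D.ht]; group)).resolve_left
    fun e => ne_one_of_two D.ht (conj_eq_one_iff.1 e)

theorem DConf.s_commute (D : DConf S K t s) : Commute s t := D.hS s D.hsS

theorem DConf.t_mem (D : DConf S K t s) : t ∈ (S : Subgroup G) := by
  have hp : IsPGroup 2 (zpowers t) := IsPGroup.of_card (n := 1) (by rw [Nat.card_zpowers, D.ht, pow_one])
  have hle : zpowers t ≤ normalizer ((S : Subgroup G) : Set G) := zpowers_le.2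
    (mem_normalizer_fintype fun y hy => by
      rw [SetLike.mem_coe] at hy ⊢
      rw [← (D.hS y hy).eq, mul_inv_cancel_right]; exact hy)
  have h1 := hp.to_sup_of_normal_right' S.2 hle
  exact S.3 h1 le_sup_right ▸ mem_sup_left (mem_zpowers t)

/-- Once all involutions are conjugate the group is simple. -/
theorem DConf.simple (D : DConf S K t s) (hss : SS G)
    (hconj : ∀ u : G, orderOf u = 2 → IsConj t u) : IsSimpleGroup G := by
  haveI := Fact.mk Nat.prime_two
  haveI : Nontrivial G := ⟨⟨t, 1, ne_one_of_two D.ht⟩⟩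
  refine ⟨fun M hM => ?_⟩
  by_cases hM1 : M = ⊥
  · exact Or.inl hM1
  right
  obtain ⟨x, hxM, hx⟩ := hss.exists_involution M hM1
  have hinv : ∀ u : G, orderOf u = 2 → u ∈ M := fun u hu => by
    obtain ⟨g, hg⟩ := isConj_iff.1 ((hconj x hx).symm.trans (hconj u hu))
    exact hg ▸ hM.conj_mem x hxM g
  have hout : ∀ y, Commute y t → y ∉ K → y ∈ M := fun y hy hyK =>
    hinv y (two_of_mul_self (D.out y hy hyK).1 fun e => hyK (e ▸ one_mem K))
  have hsM := hout s D.s_commute D.hsK
  have hCM : ∀ y, Commute y t → y ∈ M := by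
    intro y hy
    by_cases hyK : y ∈ K
    · have h1 := hout (y * s) (hy.mul_left D.s_commute) fun hm => D.hsK (by
        simpa using mul_mem (inv_mem hyK) hm)
      simpa using mul_mem h1 (inv_mem hsM)
    · exact hout y hy hyK
  have htS := D.t_mem
  have hSM : (S : Subgroup G) ≤ M := fun y hy => hCM y (D.hS y hy)
  rw [eq_top_iff]
  intro g _
  let SM : Sylow 2 M := S.subtype hSM
  have hmemSM : ∀ y : M, y ∈ (SM : Subgroup M) ↔ (y : G) ∈ (S : Subgroup G) := fun _ => Iff.rfl
  have hfr := Sylow.normalizer_sup_eq_top' S hSM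
  suffices hN : ∀ n ∈ normalizer ((S : Subgroup G) : Set G), n ∈ M from
    (hfr ▸ sup_le (fun n hn => hN n hn) le_rfl : (⊤ : Subgroup G) ≤ M) (mem_top g)
  intro n hn
  set v := n * t * n⁻¹ with hv
  have hvS : v ∈ (S : Subgroup G) := (mem_normalizer_iff.1 hn t).1 htS
  have hvc : ∀ y ∈ (S : Subgroup G), Commute y v := fun y hy => by
    have h1 := (mem_normalizer_iff.1 (inv_mem hn) y).1 hy
    rw [inv_inv] at h1
    have h2 := (Commute.conj_iff n).2 (D.hS _ h1)
    rwa [show n * (n⁻¹ * y * n) * n⁻¹ = y by group] at h2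
  by_cases hvt : v = t
  · exact hCM n (mul_inv_eq_iff_eq_mul.1 hvt)
  have hvK : v ∉ K := fun hm => hvt (D.conj_eq_of_mem hm)
  have hvt' := D.hS v hvS
  -- the Sylow subgroup is a four group
  have hfour : ∀ y ∈ (S : Subgroup G), y ∈ K → y = 1 ∨ y = t := by
    intro y hy hyK
    refine D.uniq y hyK ?_
    have h1 := (D.out v hvt' hvK).2 y hyK
    rw [(hvc y hy).symm.eq, mul_inv_cancel_right] at h1
    nth_rw 2 [h1]; exact mul_inv_cancel y
  have hall : ∀ y ∈ (S : Subgroup G), y = 1 ∨ y = t ∨ y = v ∨ y = t * v := by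
    intro y hy
    by_cases hyK : y ∈ K
    · rcases hfour y hy hyK with e | e
      · exact Or.inl e
      · exact Or.inr (Or.inl e)
    · have h1 : y * v⁻¹ ∈ K := by
        have h3 := mul_mem (D.mul_s y (D.hS y hy) hyK) (inv_mem (D.mul_s v hvt' hvK))
        rwa [show y * s * (v * s)⁻¹ = y * v⁻¹ by group] at h3
      rcases hfour _ (mul_mem hy (inv_mem hvS)) h1 with e | e
      · exact Or.inr (Or.inr (Or.inl (mul_inv_eq_one.1 e)))
      · exact Or.inr (Or.inr (Or.inr (eq_mul_of_mul_inv_eq e)))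
  -- fusion inside `M`
  have hpart : ∀ w, orderOf w = 2 → w ∈ (S : Subgroup G) →
      ∃ m ∈ M, m * w * m⁻¹ ∈ (S : Subgroup G) ∧ m * w * m⁻¹ ≠ w := by
    intro w hw hwS
    obtain ⟨m, h1, h2⟩ := (hss.of_normal M).exists_conj SM (t := ⟨w, hSM hwS⟩)
      (by rw [Subgroup.orderOf_mk]; exact hw) ((hmemSM _).2 hwS)
    exact ⟨m, m.2, (hmemSM _).1 h1, fun e => h2 (Subtype.ext e)⟩
  obtain ⟨m, hm, hmS, hmne⟩ := hpart t D.ht htS
  have hne1 : ∀ {w g' : G}, orderOf w = 2 → g' * w * g'⁻¹ ≠ 1 := fun hw e =>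
    ne_one_of_two hw (conj_eq_one_iff.1 e)
  obtain ⟨m', hm', he⟩ : ∃ m' ∈ M, m' * t * m'⁻¹ = v := by
    rcases hall _ hmS with e | e | e | e
    · exact absurd e (hne1 D.ht)
    · exact absurd e hmne
    · exact ⟨m, hm, e⟩
    · have hv2 : orderOf v = 2 := (Invol.orderOf_conj n t).trans D.ht
      obtain ⟨m₂, hm₂, hm₂S, hm₂ne⟩ := hpart v hv2 hvS
      rcases hall _ hm₂S with e' | e' | e' | e'
      · exact absurd e' (hne1 hv2)
      · exact ⟨m₂⁻¹, inv_mem hm₂, by rw [← e']; group⟩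
      · exact absurd e' hm₂ne
      · exact ⟨m₂⁻¹ * m, mul_mem (inv_mem hm₂) hm, by
          calc m₂⁻¹ * m * t * (m₂⁻¹ * m)⁻¹ = m₂⁻¹ * (m * t * m⁻¹) * m₂ := by group
            _ = v := by rw [e, ← e']; group⟩
  have h1 : Commute (m'⁻¹ * n) t := by
    show m'⁻¹ * n * t = t * (m'⁻¹ * n)
    calc m'⁻¹ * n * t = m'⁻¹ * v * n := by rw [hv]; group
      _ = t * (m'⁻¹ * n) := by rw [← he]; group
  simpa using mul_mem hm' (hCM _ h1)

theorem DConf.psl (D : DConf S K t s) (hss : SS G) (hconj : ∀ u : G, orderOf u = 2 → IsConj t u) :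
    ∃ (F : Type) (_ : Field F) (_ : Fintype F), Odd (Fintype.card F) ∧ 3 < Fintype.card F ∧
      Nonempty (G ≃* Matrix.ProjectiveSpecialLinearGroup (Fin 2) F) := by
  classical
  haveI := D.simple hss hconj
  have hna : ¬ IsMulCommutative G := fun hc => by
    have h1 : Group.IsSolvable G := Group.isSolvable_of_comm fun a b => hc.is_comm.comm a b
    haveI : Nontrivial G := ⟨⟨t, 1, ne_one_of_two D.ht⟩⟩
    exact top_ne_bot (hss ⊤ inferInstance inferInstance)
  haveI := Fintype.ofFinite G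
  have H : BSWAbstract.Hyp t s K := by
    refine ⟨D.ht, fun a ha b hb => (D.comm a ha b hb).eq, D.htK, D.hs, D.hsK, ?_, ?_,
      (D.out s D.s_commute D.hsK).2, ?_, fun x y hx hy => (hconj x hx).symm.trans (hconj y hy)⟩
    · refine le_antisymm (sup_le (fun k hk => mem_centralizer_singleton_iff.2 (D.cent k hk).eq)
        (zpowers_le.2 (mem_centralizer_singleton_iff.2 D.s_commute.eq))) fun x hx => ?_
      have hxt := mem_centralizer_singleton_iff.1 hx
      by_cases hxK : x ∈ K
      · exact mem_sup_left hxK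
      · have := mul_mem (mem_sup_left (D.mul_s x hxt hxK) : x * s ∈ K ⊔ zpowers s)
          (inv_mem (mem_sup_right (mem_zpowers s)))
        simpa using this
    · refine le_antisymm (fun k hk => ?_) (zpowers_le.2 ⟨D.htK, mem_centralizer_singleton_iff.2 D.s_commute.symm.eq⟩)
      obtain ⟨hkK, hks⟩ := hk
      have h1 := (D.out s D.s_commute D.hsK).2 k hkK
      rw [show s * k = k * s from (mem_centralizer_singleton_iff.1 hks).symm, mul_inv_cancel_right] at h1
      rcases D.uniq k hkK (by nth_rw 2 [h1]; exact mul_inv_cancel k) with e | e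
      · rw [e]; exact one_mem _
      · rw [e]; exact mem_zpowers t
    · exact fun g hg => D.ti g fun hc => hg (mem_centralizer_singleton_iff.2 hc)
  obtain ⟨F, iF, iFF, hodd, ⟨e⟩⟩ := BSWAbstract.psl_of_concl hna (BSWAbstract.concl H)
  refine ⟨F, iF, iFF, hodd, ?_, ⟨e⟩⟩
  by_contra hlt
  have h3 : Fintype.card F = 3 := by
    have := Fintype.one_lt_card (α := F)
    obtain ⟨j, hj⟩ := hodd
    omega
  have hc := card_pgl hodd
  rw [S0265.result 2, SL2Class.card_sl, h3, ← Nat.card_congr e.toEquiv] at hc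
  refine hna ⟨⟨fun a b => ?_⟩⟩
  exact (IsSimpleGroup.comm_iff_isSolvable.2 (Char.isSolvable_of_card_eq 2 3 Nat.prime_two
    Nat.prime_three _ G rfl ⟨2, 1, by omega⟩)) a b

theorem DConf.concl' (D : DConf S K t s) (hss : SS G)
    (hcom : ∀ w x y : G, orderOf w = 2 → Commute x w → Commute y w → Odd (orderOf x) →
      Odd (orderOf y) → Commute x y) :
    ∃ (F : Type) (_ : Field F) (_ : Fintype F), Odd (Fintype.card F) ∧ 3 < Fintype.card F ∧
      (Nonempty (G ≃* Matrix.ProjectiveSpecialLinearGroup (Fin 2) F) ∨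
        Nonempty (G ≃* Matrix.ProjGenLinGroup (Fin 2) F)) := by
  classical
  haveI := Fact.mk Nat.prime_two
  have htS := D.t_mem
  have hS2 := S.2
  have hinv_out : ∀ y ∈ (S : Subgroup G), y ∉ K → orderOf y = 2 := fun y hy hyK =>
    two_of_mul_self (D.out y (D.hS y hy) hyK).1 fun e => hyK (e ▸ one_mem K)
  by_cases hall : ∀ y ∈ (S : Subgroup G), y ∉ K → IsConj t y
  · have hconj : ∀ u : G, orderOf u = 2 → IsConj t u := by
      intro u hu
      obtain ⟨P, hP⟩ := (IsPGroup.of_card (n := 1) (by rw [Nat.card_zpowers, hu, pow_one]) :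
        IsPGroup 2 (zpowers u)).exists_le_sylow
      obtain ⟨g, hg⟩ := MulAction.exists_smul_eq G S P
      rw [← hg] at hP
      have h1 := mem_smul_iff.1 (hP (mem_zpowers u))
      have hcu : IsConj (g⁻¹ * u * g) u := isConj_iff.2 ⟨g, by group⟩
      by_cases hK : g⁻¹ * u * g ∈ K
      · rcases D.uniq _ hK (by
          rw [show g⁻¹ * u * g * (g⁻¹ * u * g) = g⁻¹ * (u * u) * g by group, mul_self_of_two hu]; group) with e | e
        · exact absurd (by rw [← mul_left_cancel_iff (a := g⁻¹), ← mul_right_cancel_iff (a := g), e]; group)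
            (ne_one_of_two hu)
        · rwa [e] at hcu
      · exact (hall _ h1 hK).trans hcu
    obtain ⟨F, iF, iFF, hodd, h3, he⟩ := D.psl hss hconj
    exact ⟨F, iF, iFF, hodd, h3, Or.inl he⟩
  push Not at hall
  obtain ⟨s1, hs1S, hs1K, hs1⟩ := hall
  have hs1t := D.hS s1 hs1S
  have hs12 := hinv_out s1 hs1S hs1K
  obtain ⟨g0, hg0S, hg0ne⟩ := hss.exists_conj S D.ht htS
  set s' := g0 * t * g0⁻¹ with hs'
  have hs'2 : orderOf s' = 2 := (Invol.orderOf_conj g0 t).trans D.ht
  have hs'K : s' ∉ K := fun hm => hg0ne (D.conj_eq_of_mem hm)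
  have hs't := D.hS s' hg0S
  -- the part of `K` in the Sylow subgroup is cyclic
  set A := (S : Subgroup G) ⊓ K with hA
  have hAp : IsPGroup 2 A := S.2.to_le inf_le_left
  haveI hAc : IsMulCommutative A :=
    ⟨⟨fun a b => Subtype.ext (D.comm a a.2.2 b b.2.2).eq⟩⟩
  have hAcyc : IsCyclic A := Fusion.isCyclic_of_unique hAp hAc fun a ha b hb hb2 ha2 => by
    have hbt : b = t := (D.uniq b hb.2 (mul_self_of_two hb2)).resolve_left (ne_one_of_two hb2)
    rcases D.uniq a ha.2 (by rw [← sq]; exact ha2) with e | e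
    · rw [e]; exact one_mem _
    · rw [e, ← hbt]; exact mem_zpowers b
  obtain ⟨⟨c, hcA⟩, hc⟩ := hAcyc.exists_generator
  have hgen : ∀ a ∈ A, ∃ i : ℤ, a = c ^ i := fun a ha => by
    obtain ⟨i, hi⟩ := mem_zpowers_iff.1 (hc ⟨a, ha⟩)
    exact ⟨i, (congrArg Subtype.val hi).symm⟩
  -- the subgroup of index two
  have hrel : K.relIndex (S : Subgroup G) = 2 := by
    show (K.subgroupOf (S : Subgroup G)).index = 2
    rw [index_eq_two_iff]
    refine ⟨⟨s1, hs1S⟩, fun b => ?_⟩
    simp only [mem_subgroupOf, Subgroup.coe_mul]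
    by_cases hb : (b : G) ∈ K
    · exact Or.inr ⟨hb, fun hm => hs1K (by simpa using mul_mem (inv_mem hb) hm)⟩
    · refine Or.inl ⟨?_, hb⟩
      have h1 := mul_mem (D.mul_s b (D.hS b b.2) hb) (inv_mem (D.mul_s s1 hs1t hs1K))
      rw [show (b : G) * s * (s1 * s)⁻¹ = b * s1⁻¹ by group, inv_of_two hs12] at h1
      exact h1
  obtain ⟨N, hN, hN2, hs1N⟩ := TwoTransfer.exists_index_two S K hrel s1 hs1S
    (fun k g hk _ => by
      have : s1 ^ 2 ^ k = 1 := orderOf_dvd_iff_pow_eq_one.1 (by rw [hs12]; exact dvd_pow_self 2 (Nat.one_le_iff_ne_zero.1 hk))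
      rw [this, mul_one, inv_mul_cancel]; exact one_mem K)
    (fun g hg hgK => by
      rcases D.uniq _ hgK (by
        rw [show g⁻¹ * s1 * g * (g⁻¹ * s1 * g) = g⁻¹ * (s1 * s1) * g by group, mul_self_of_two hs12]; group) with e | e
      · exact ne_one_of_two hs12 (by
          calc s1 = g * (g⁻¹ * s1 * g) * g⁻¹ := by group
            _ = 1 := by rw [e]; group)
      · exact hs1 (isConj_iff.2 ⟨g, by rw [← e]; group⟩))
  have hsqN : ∀ x : G, x * x ∈ N := fun x => (Subgroup.mul_mem_iff_of_index_two hN2).2 Iff.rfl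
  have hmulN : ∀ {x y : G}, x ∉ N → y ∉ N → x * y ∈ N := fun hx hy =>
    (Subgroup.mul_mem_iff_of_index_two hN2).2 (iff_of_false hx hy)
  -- `t` lies in `N`
  obtain ⟨i, hi⟩ := hgen t ⟨htS, D.htK⟩
  have htN : t ∈ N := by
    by_contra htN
    have hcN : c ∉ N := fun hm => htN (hi ▸ zpow_mem hm i)
    by_cases hcc : c * c = 1
    · -- then the Sylow subgroup is a four group and `s'` is fused to `t`
      have hct : c = t := (D.uniq c hcA.2 hcc).resolve_left fun e => hcN (e ▸ one_mem N)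
      have hs'N : s' ∉ N := fun hm => htN (by
        have := hN.conj_mem _ hm g0⁻¹
        rwa [hs', show g0⁻¹ * (g0 * t * g0⁻¹) * g0⁻¹⁻¹ = t by group] at this)
      have hA1 : ∀ y ∈ (S : Subgroup G), y ∈ K → y = 1 ∨ y = t := fun y hy hyK => D.uniq y hyK (by
        obtain ⟨j, rfl⟩ := hgen y ⟨hy, hyK⟩
        rw [← (Commute.refl c).mul_zpow, hcc, one_zpow])
      have h1 : s1 * s' ∈ K := by
        have := mul_mem (D.mul_s s1 hs1t hs1K) (inv_mem (D.mul_s s' hs't hs'K))
        rwa [show s1 * s * (s' * s)⁻¹ = s1 * s'⁻¹ by group, inv_of_two hs'2] at this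
      rcases hA1 _ (mul_mem hs1S hg0S) h1 with e | e
      · exact hs1 (isConj_iff.2 ⟨g0, by rw [← hs', ← inv_of_two hs'2]; exact (eq_inv_of_mul_eq_one_left e).symm⟩)
      · exact htN (e ▸ hmulN hs1N hs'N)
    · obtain ⟨k, -, hk⟩ := exists_root hS2 hcA.1 (fun e => hcc (by rw [e, mul_one]))
      have hkt : k = t := (D.uniq k ((zpowers_le.2 hcA.2) hk.2) (mul_self_of_two hk.1)).resolve_left
        (ne_one_of_two hk.1)
      exact htN (hkt ▸ (zpowers_le.2 (hsqN c)) (hk.of_sq hS2 hcA.1 hcc).2)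
  have hs'N : s' ∈ N := hN.conj_mem t htN g0
  set a := s1 * s' with ha
  have haN : a ∉ N := fun hm => hs1N (by simpa [ha] using mul_mem hm (inv_mem hs'N))
  have haK : a ∈ K := by
    have := mul_mem (D.mul_s s1 hs1t hs1K) (inv_mem (D.mul_s s' hs't hs'K))
    rwa [show s1 * s * (s' * s)⁻¹ = s1 * s'⁻¹ by group, inv_of_two hs'2] at this
  have haA : a ∈ A := ⟨mul_mem hs1S hg0S, haK⟩
  have hcN : c ∉ N := fun hm => haN (by
    obtain ⟨j, hj⟩ := hgen a haA
    exact hj ▸ zpow_mem hm j)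
  -- the configuration in `N`
  obtain ⟨P, hP⟩ := exists_sylow_normal S N
  have hcoe : ∀ x y : N, Commute (x : G) y → Commute x y := fun x y hc => Subtype.ext hc.eq
  have DN : DConf P (K.subgroupOf N) (⟨t, htN⟩ : N) ⟨s', hs'N⟩ := by
    refine ⟨by rw [Subgroup.orderOf_mk]; exact D.ht, by rw [Subgroup.orderOf_mk]; exact hs'2, D.htK, hs'K,
      (hP _).2 hg0S, fun x hx y hy => hcoe _ _ (D.comm _ hx _ hy), fun x hx => hcoe _ _ (D.cent _ hx),
      fun x hx => hcoe _ _ (D.hS _ ((hP x).1 hx)), fun x hx hxK => ?_, fun x hx hxK => ?_,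
      fun k hk hkk => ?_, fun g hg => ?_⟩
    · obtain ⟨e1, e2⟩ := D.out x (congrArg Subtype.val hx.eq) hxK
      exact ⟨Subtype.ext e1, fun k hk => Subtype.ext (e2 k hk)⟩
    · show (x : G) * s' ∈ K
      have := mul_mem (D.mul_s x (congrArg Subtype.val hx.eq) hxK) (inv_mem (D.mul_s s' hs't hs'K))
      rwa [show (x : G) * s * (s' * s)⁻¹ = x * s'⁻¹ by group, inv_of_two hs'2] at this
    · rcases D.uniq k hk (congrArg Subtype.val hkk) with e | e
      · exact Or.inl (Subtype.ext e)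
      · exact Or.inr (Subtype.ext e)
    · rw [Subgroup.eq_bot_iff_forall]
      rintro k ⟨hk, k', hk', hkk'⟩
      have hmem : (k : G) ∈ K ⊓ K.map (MulAut.conj (g : G)).toMonoidHom :=
        ⟨hk, (k' : G), hk', congrArg Subtype.val hkk'⟩
      rw [D.ti g fun hc => hg (hcoe g ⟨t, htN⟩ hc), mem_bot] at hmem
      exact Subtype.ext hmem
  have hconjN : ∀ u : N, orderOf u = 2 → IsConj (⟨t, htN⟩ : N) u := by
    -- it suffices to conjugate in the whole group
    have hG : ∀ u : G, u ∈ N → orderOf u = 2 → ∃ g, g * t * g⁻¹ = u := by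
      intro u huN hu
      obtain ⟨R, hR⟩ := (IsPGroup.of_card (n := 1) (by rw [Nat.card_zpowers, hu, pow_one]) :
        IsPGroup 2 (zpowers u)).exists_le_sylow
      obtain ⟨g, hg⟩ := MulAction.exists_smul_eq G S R
      rw [← hg] at hR
      set y := g⁻¹ * u * g with hy
      have hyS : y ∈ (S : Subgroup G) := mem_smul_iff.1 (hR (mem_zpowers u))
      have hyN : y ∈ N := by
        have := hN.conj_mem u huN g⁻¹
        rwa [inv_inv] at this
      have hy2 : orderOf y = 2 := by
        rw [hy, show g⁻¹ * u * g = g⁻¹ * u * g⁻¹⁻¹ by group, Invol.orderOf_conj, hu]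
      obtain ⟨g', hg'⟩ : ∃ g', g' * t * g'⁻¹ = y := by
        by_cases hyK : y ∈ K
        · exact ⟨1, by rw [(D.uniq y hyK (mul_self_of_two hy2)).resolve_left (ne_one_of_two hy2)]; group⟩
        have h1 : y * s' ∈ A := ⟨mul_mem hyS hg0S, by
          have := mul_mem (D.mul_s y (D.hS y hyS) hyK) (inv_mem (D.mul_s s' hs't hs'K))
          rwa [show y * s * (s' * s)⁻¹ = y * s'⁻¹ by group, inv_of_two hs'2] at this⟩
        obtain ⟨j, hj⟩ := hgen _ h1
        rcases Int.even_or_odd' j with ⟨m, rfl | rfl⟩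
        · refine ⟨c ^ m * g0, ?_⟩
          have hinv := (D.out s' hs't hs'K).2 (c ^ m)⁻¹ (inv_mem (zpow_mem (show c ∈ K from hcA.2) m))
          rw [inv_inv] at hinv
          calc c ^ m * g0 * t * (c ^ m * g0)⁻¹ = c ^ m * (s' * (c ^ m)⁻¹ * s'⁻¹) * s' := by rw [hs']; group
            _ = c ^ m * c ^ m * s' := by rw [hinv]
            _ = c ^ (2 * m) * s' := by rw [← zpow_add, two_mul]
            _ = y := by rw [← hj, mul_assoc, mul_self_of_two hs'2, mul_one]
        · exfalso
          apply hcN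
          have h2 : c ^ (2 * m + 1) ∈ N := hj ▸ mul_mem hyN hs'N
          rw [zpow_add, zpow_one, zpow_mul] at h2
          have h3 : (c ^ (2 : ℤ)) ^ m ∈ N := zpow_mem (by
            rw [show (2 : ℤ) = ((2 : ℕ) : ℤ) from rfl, zpow_natCast, sq]; exact hsqN c) m
          exact (Subgroup.mul_mem_cancel_left N h3).1 h2
      exact ⟨g * g', by rw [hy] at hg'; calc g * g' * t * (g * g')⁻¹ = g * (g' * t * g'⁻¹) * g⁻¹ := by group
            _ = u := by rw [hg']; group⟩
    intro u hu
    obtain ⟨g, hg⟩ := hG u u.2 (by rw [Subgroup.orderOf_coe]; exact hu)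
    refine isConj_iff.2 ?_
    by_cases hgN : g ∈ N
    · exact ⟨⟨g, hgN⟩, Subtype.ext hg⟩
    · refine ⟨⟨g * a, hmulN hgN haN⟩, Subtype.ext ?_⟩
      show g * a * t * (g * a)⁻¹ = u
      rw [mul_assoc g a t, (D.cent a haK).eq, ← hg]; group
  obtain ⟨F, iF, iFF, hodd, h3, ⟨e⟩⟩ := DN.psl (hss.of_normal N) hconjN
  have hsimp := DN.simple (hss.of_normal N) hconjN
  have hC : Subgroup.centralizer (N : Set G) = ⊥ := by
    by_contra hne
    haveI : (Subgroup.centralizer (N : Set G)).Normal := inferInstance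
    obtain ⟨u, huC, hu⟩ := hss.exists_involution _ hne
    have hcu : ∀ x ∈ N, Commute x u := fun x hx => mem_centralizer_iff.1 huC x hx
    have hut : Commute u t := (hcu t htN).symm
    have huN : u ∉ N := by
      intro huN
      have hcen : (⟨u, huN⟩ : N) ∈ Subgroup.center N :=
        Subgroup.mem_center_iff.2 fun x => Subtype.ext (hcu x x.2).eq
      rcases hsimp.eq_bot_or_eq_top_of_normal (Subgroup.center N) inferInstance with h0 | h0
      · rw [h0, mem_bot] at hcen
        exact ne_one_of_two hu (congrArg Subtype.val hcen)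
      · haveI : Group.IsSolvable N := Group.isSolvable_of_comm fun x y =>
          (Subgroup.mem_center_iff.1 (h0 ▸ mem_top y) x)
        have := hss N hN inferInstance
        rw [this, mem_bot] at htN
        exact ne_one_of_two D.ht htN
    by_cases huK : u ∈ K
    · exact huN ((D.uniq u huK (mul_self_of_two hu)).resolve_left (ne_one_of_two hu) ▸ htN)
    · have h1 : u * s' ∈ K := by
        have := mul_mem (D.mul_s u hut huK) (inv_mem (D.mul_s s' hs't hs'K))
        rwa [show u * s * (s' * s)⁻¹ = u * s'⁻¹ by group, inv_of_two hs'2] at this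
      have h2 : u * s' * (u * s') = 1 := by
        calc u * s' * (u * s') = u * (s' * u) * s' := by group
          _ = u * (u * s') * s' := by rw [(hcu s' hs'N).eq]
          _ = (u * u) * (s' * s') := by group
          _ = 1 := by rw [mul_self_of_two hu, mul_self_of_two hs'2, one_mul]
      have h3 : u * s' ∈ N := by
        rcases D.uniq _ h1 h2 with e | e <;> rw [e]
        exacts [one_mem N, htN]
      exact huN ((Subgroup.mul_mem_cancel_right N hs'N).1 h3)
  exact ⟨F, iF, iFF, hodd, h3, Or.inr (pgl_recognition N hN2 hodd e hC hs1N hs12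
    fun x y => hcom s1 x y hs12)⟩

theorem DConf.concl (D : DConf S K t s) (h : II G) (hss : SS G) : Concl G := by
  obtain ⟨F, iF, iFF, -, h3, he⟩ := D.concl' hss fun w x y hw hx hy hxo hyo =>
    h.oddC_comm hw ((h.mem_oddC_iff hw).2 ⟨hx, hxo⟩) ((h.mem_oddC_iff hw).2 ⟨hy, hyo⟩)
  exact ⟨F, iF, iFF, h3, he⟩

end Cfsg.Agent.IIGroups
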