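import Cfsg.Agent.IIGroups.Sylow
import Cfsg.Agent.SuzukiTI.Main

/-!
# The action of a Sylow 2-subgroup on the odd part of an involution centralizer; the abelian configuration
-/

set_option autoImplicit false

namespace Cfsg.Agent.IIGroups

open Subgroup
open Cfsg.Agent.Fg24.CT (Inv2)

universe u

variable {G : Type u} [Group G] [Finite G]

/-- The conclusion. -/
def Concl (G : Type u) [Group G] : Prop :=
  ∃ (F : Type) (_ : Field F) (_ : Fintype F), 3 < Fintype.card F ∧
    (Nonempty (G ≃* Matrix.ProjectiveSpecialLinearGroup (Fin 2) F) ∨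
      Nonempty (G ≃* Matrix.ProjGenLinGroup (Fin 2) F))

/-- `x` centralises the odd part of the centralizer of `t`. -/
def Fix (t x : G) : Prop := ∀ o ∈ oddC t, Commute x o

theorem Fix.one (t : G) : Fix t 1 := fun o _ => Commute.one_left o

theorem Fix.mul {t x y : G} (hx : Fix t x) (hy : Fix t y) : Fix t (x * y) :=
  fun o ho => (hx o ho).mul_left (hy o ho)

theorem Fix.inv {t x : G} (hx : Fix t x) : Fix t x⁻¹ := fun o ho => (hx o ho).inv_left

theorem odd_sq_one {o : G} (ho : Odd (orderOf o)) (h : o * o = 1) : o = 1 := by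
  by_contra hne
  rw [two_of_mul_self h hne] at ho
  exact (Nat.not_even_iff_odd.2 ho) even_two

theorem II.fix_self (h : II G) {t : G} (ht : orderOf t = 2) : Fix t t :=
  fun o ho => ((h.mem_oddC_iff ht).1 ho).1.symm

theorem II.inverts (h : II G) {t y : G} (ht : orderOf t = 2) (hy : orderOf y = 2) (hyt : Commute y t)
    (hn : ¬ Fix t y) {o : G} (ho : o ∈ oddC t) : y * o * y⁻¹ = o⁻¹ := by
  have hyy := mul_self_of_two hy
  have hfree : ∀ o' ∈ oddC t, Commute o' y → o' = 1 := by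
    intro o' ho' hc
    by_contra hne
    obtain ⟨hot, hodd⟩ := (h.mem_oddC_iff ht).1 ho'
    apply hn
    intro o'' ho''
    have h1 : o'' ∈ centralizer ({t} : Set G) :=
      mem_centralizer_singleton_iff.2 ((h.mem_oddC_iff ht).1 ho'').1
    rw [h.cent_eq ht hy hodd hne hot hc] at h1
    exact (show Commute o'' y from mem_centralizer_singleton_iff.1 h1).symm
  have h1 : y * o * y⁻¹ ∈ oddC t := h.oddC_conj ht ho hyt
  have h2 : y * (o * (y * o * y⁻¹)) * y⁻¹ = o * (y * o * y⁻¹) := by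
    calc y * (o * (y * o * y⁻¹)) * y⁻¹ = (y * o * y⁻¹) * ((y * y) * o * (y * y)⁻¹) := by group
      _ = (y * o * y⁻¹) * o := by rw [hyy]; group
      _ = o * (y * o * y⁻¹) := (h.oddC_comm ht h1 ho).eq
  have := hfree _ (mul_mem ho h1) (mul_inv_eq_iff_eq_mul.1 h2).symm
  exact eq_inv_of_mul_eq_one_right this

variable {S : Subgroup G} (hS : IsPGroup 2 S)
include hS

theorem II.fix_of_root (h : II G) {t x k : G} (ht : orderOf t = 2) (hx : x ∈ S) (hxt : Commute x t)
    (hk : Root x k) (hkf : Fix t k) : Fix t x := by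
  intro o ho
  obtain ⟨hot, hodd⟩ := (h.mem_oddC_iff ht).1 ho
  have h1 : x * o * x⁻¹ * o⁻¹ ∈ oddC t := mul_mem (h.oddC_conj ht ho hxt) (inv_mem ho)
  have h2 : x * o * x⁻¹ * o⁻¹ ∈ zpowers x := by
    rw [show x * o * x⁻¹ * o⁻¹ = x * (o * x * o⁻¹)⁻¹ by group]
    exact mul_mem (mem_zpowers x) (inv_mem (h.conj_mem hk.1 hk.2 (hkf o ho).symm))
  have h3 := h.oddC_inter ht h1 hS ((zpowers_le.2 hx) h2)
  rw [mul_inv_eq_one, mul_inv_eq_iff_eq_mul] at h3
  exact h3

/-- A root not fixing the odd part of the centralizer of a commuting involution has no odd part. -/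
theorem II.oddC_root (h : II G) {t x r : G} (ht : orderOf t = 2) (htS : t ∈ S) (hx : x ∈ S)
    (hb : x * x ≠ 1) (hr : Root x r) (hxt : Commute x t) (hn : ¬ Fix t r) {o : G} (ho : o ∈ oddC r) :
    o = 1 := by
  by_contra hne
  obtain ⟨hor, hodd⟩ := (h.mem_oddC_iff hr.1).1 ho
  have hnot : ¬ Commute o t := by
    intro hot
    apply hn
    intro o' ho'
    have h1 : o' ∈ centralizer ({t} : Set G) :=
      mem_centralizer_singleton_iff.2 ((h.mem_oddC_iff ht).1 ho').1
    rw [← h.cent_eq hr.1 ht hodd hne hor hot] at h1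
    exact (show Commute o' r from mem_centralizer_singleton_iff.1 h1).symm
  have hfx : Fix r x := h.fix_of_root hS hr.1 hx hr.commute hr (h.fix_self hr.1)
  have hb' : x * t * (x * t) = x * x := by
    calc x * t * (x * t) = x * (t * x) * t := by group
      _ = x * (x * t) * t := by rw [hxt.eq]
      _ = x * x * (t * t) := by group
      _ = x * x := by rw [mul_self_of_two ht, mul_one]
  have hroot : Root (x * t) r :=
    ⟨hr.1, (zpowers_le.2 (hb' ▸ mul_mem (mem_zpowers (x * t)) (mem_zpowers (x * t)))) (hr.of_sq hS hx hb).2⟩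
  have hfxt : Fix r (x * t) := h.fix_of_root hS hr.1 (mul_mem hx htS) hroot.commute hroot (h.fix_self hr.1)
  have h2 := (hfx.inv.mul hfxt) o ho
  rw [inv_mul_cancel_left] at h2
  exact hnot h2.symm

omit hS

/-- An involution of `C(t)` lies in the Sylow 2-subgroup when its `2`-part fixes the odd part. -/
theorem II.invol_decomp (h : II G) {t u o z : G} (ht : orderOf t = 2) {S : Subgroup G} (hS : IsPGroup 2 S)
    (hu : orderOf u = 2) (ho : o ∈ oddC t) (hz : z ∈ S) (hzf : Fix t z) (he : u = o * z) :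
    o = 1 ∧ u = z := by
  have h1 := mul_self_of_two hu
  have hoz : o * o * (z * z) = 1 := by
    rw [← h1, he]
    calc o * o * (z * z) = o * (o * z) * z := by group
      _ = o * (z * o) * z := by rw [(hzf o ho).eq]
      _ = o * z * (o * z) := by group
  have h2 : o * o = 1 := h.oddC_inter ht (mul_mem ho ho) hS (by
    rw [eq_inv_of_mul_eq_one_left hoz]; exact inv_mem (mul_mem hz hz))
  have h3 := odd_sq_one ((h.mem_oddC_iff ht).1 ho).2 h2
  exact ⟨h3, by rw [he, h3, one_mul]⟩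

/-- The configuration of Suzuki in a normal subgroup. -/
theorem II.suzuki_hyp (h : II G) (hss : SS G) (L : Subgroup G) [L.Normal] {t : G} (ht : orderOf t = 2)
    (htL : t ∈ L)
    (hab : ∀ x ∈ L, ∀ y ∈ L, Commute x t → Commute y t → Commute x y)
    (hcent : ∀ u ∈ L, orderOf u = 2 → Commute u t → ∀ g ∈ L, Commute g u → Commute g t)
    (htwo : ∃ u ∈ L, orderOf u = 2 ∧ Commute u t ∧ u ≠ t) :
    SuzukiTI.Hyp (centralizer ({(⟨t, htL⟩ : L)} : Set L)) := by
  set K := centralizer ({(⟨t, htL⟩ : L)} : Set L) with hK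
  have hmem : ∀ x : L, x ∈ K ↔ Commute (x : G) t := fun x => by
    rw [hK, mem_centralizer_singleton_iff, Subtype.ext_iff]; rfl
  have hinv : ∀ x : L, Inv2 x → orderOf (x : G) = 2 := fun x hx => by
    rw [Subgroup.orderOf_coe]; exact SuzukiTI.orderOf_inv2 hx
  refine ⟨fun hn => ?_, ?_, fun u hu hu2 => ?_, fun y hy hy1 g hg => ?_⟩
  · have hKn : K.Normal := normalizer_eq_top_iff.1 hn
    haveI : IsMulCommutative K :=
      ⟨⟨fun a b => Subtype.ext (Subtype.ext
        (hab _ (a : L).2 _ (b : L).2 ((hmem a).1 a.2) ((hmem b).1 b.2)).eq)⟩⟩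
    haveI : Group.IsSolvable K := Group.isSolvable_of_comm fun a b => (setLike_mul_comm a.2 b.2 |> Subtype.ext)
    have hb := hss.of_normal L K hKn inferInstance
    have h1 : (⟨t, htL⟩ : L) ∈ K := (hmem _).2 (Commute.refl t)
    rw [hb, mem_bot] at h1
    exact ne_one_of_two ht (congrArg Subtype.val h1)
  · obtain ⟨u, huL, hu, hut, hne⟩ := htwo
    refine ⟨⟨u, huL⟩, ⟨t, htL⟩, (hmem _).2 hut, (hmem _).2 (Commute.refl t), ?_, ?_,
      fun e => hne (congrArg Subtype.val e)⟩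
    · exact SuzukiTI.inv2_of_orderOf (by rw [← Subgroup.orderOf_coe]; exact hu)
    · exact SuzukiTI.inv2_of_orderOf (by rw [← Subgroup.orderOf_coe]; exact ht)
  · ext g
    rw [mem_centralizer_singleton_iff]
    refine ⟨fun hgu => (hmem g).2 (hcent u u.2 (hinv u hu2) ((hmem u).1 hu) g g.2 ?_), fun hgK => ?_⟩
    · exact congrArg Subtype.val hgu
    · exact Subtype.ext (hab _ g.2 _ u.2 ((hmem g).1 hgK) ((hmem u).1 hu)).eq
  · rw [hmem]
    have hgy : Commute (g : G) y := congrArg Subtype.val (mem_centralizer_singleton_iff.1 hg)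
    have hy1' : (y : G) ≠ 1 := fun e => hy1 (Subtype.ext e)
    rcases Nat.even_or_odd (orderOf (y : G)) with he | ho
    · obtain ⟨m, hm⟩ := he
      have hm0 : 0 < m := by have := orderOf_pos (y : G); omega
      set k := (y : G) ^ m with hk
      have hk2 : orderOf k = 2 := by
        rw [hk, orderOf_pow' _ (by omega), hm, show m + m = 2 * m by ring,
          Nat.gcd_eq_right (dvd_mul_left m 2), Nat.mul_div_cancel _ hm0]
      exact hcent k (pow_mem y.2 m) hk2 (((hmem y).1 hy).pow_left m) g g.2 (hgy.pow_right m)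
    · exact h.commute_of_odd ht ho hy1' ((hmem y).1 hy) hgy

theorem II.no_odd_part (h : II G) (hss : SS G) (L : Subgroup G) [L.Normal] {t o : G} (ht : orderOf t = 2)
    (htL : t ∈ L) (hab : ∀ x ∈ L, ∀ y ∈ L, Commute x t → Commute y t → Commute x y)
    (hcent : ∀ u ∈ L, orderOf u = 2 → Commute u t → ∀ g ∈ L, Commute g u → Commute g t)
    (htwo : ∃ u ∈ L, orderOf u = 2 ∧ Commute u t ∧ u ≠ t)
    (ho : o ∈ oddC t) (hoL : o ∈ L) : o = 1 := by
  have hp := (h.suzuki_hyp hss L ht htL hab hcent htwo).isPGroup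
  have hmem : (⟨o, hoL⟩ : L) ∈ centralizer ({(⟨t, htL⟩ : L)} : Set L) :=
    mem_centralizer_singleton_iff.2 (Subtype.ext ((h.mem_oddC_iff ht).1 ho).1.eq)
  obtain ⟨j, hj⟩ := pow_two_order hp hmem
  have h1 := ((h.mem_oddC_iff ht).1 ho).2
  rw [← Subgroup.orderOf_mk o hoL] at *
  rcases Nat.eq_zero_or_pos j with rfl | hp'
  · rw [pow_zero, orderOf_eq_one_iff] at hj
    exact congrArg Subtype.val hj
  · rw [hj] at h1
    exact absurd h1 (Nat.not_odd_iff_even.2 (Nat.even_pow.2 ⟨even_two, by omega⟩))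

/-- The configuration with dihedral Sylow 2-subgroups. -/
structure DConf (S : Sylow 2 G) (K : Subgroup G) (t s : G) : Prop where
  ht : orderOf t = 2
  hs : orderOf s = 2
  htK : t ∈ K
  hsK : s ∉ K
  hsS : s ∈ (S : Subgroup G)
  comm : ∀ x ∈ K, ∀ y ∈ K, Commute x y
  cent : ∀ x ∈ K, Commute x t
  hS : ∀ x ∈ (S : Subgroup G), Commute x t
  out : ∀ x, Commute x t → x ∉ K → x * x = 1 ∧ ∀ k ∈ K, x * k * x⁻¹ = k⁻¹
  mul_s : ∀ x, Commute x t → x ∉ K → x * s ∈ K
  uniq : ∀ k ∈ K, k * k = 1 → k = 1 ∨ k = t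
  ti : ∀ g : G, ¬ Commute g t → K ⊓ K.map (MulAut.conj g).toMonoidHom = ⊥

theorem II.dconf (h : II G) {t s : G} (ht : orderOf t = 2) (S : Sylow 2 G)
    (hS : ∀ x ∈ (S : Subgroup G), Commute x t) (A : Subgroup G) (hAS : A ≤ (S : Subgroup G))
    (hAc : ∀ x ∈ A, ∀ y ∈ A, Commute x y) (hAf : ∀ a ∈ A, Fix t a)
    (hout : ∀ z ∈ (S : Subgroup G), z ∉ A → z * z = 1 ∧ (∀ a ∈ A, z * a * z⁻¹ = a⁻¹) ∧
      ∀ o ∈ oddC t, z * o * z⁻¹ = o⁻¹)
    (hmul : ∀ z ∈ (S : Subgroup G), z ∉ A → ∀ z' ∈ (S : Subgroup G), z' ∉ A → z * z' ∈ A)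
    (htA : t ∈ A) (huniq : ∀ a ∈ A, a * a = 1 → a = 1 ∨ a = t)
    (hsS : s ∈ (S : Subgroup G)) (hsA : s ∉ A) : ∃ K, DConf S K t s := by
  let K : Subgroup G :=
    { carrier := {g | ∃ o ∈ oddC t, ∃ a ∈ A, g = o * a}
      one_mem' := ⟨1, one_mem _, 1, one_mem _, by simp⟩
      mul_mem' := by
        rintro _ _ ⟨o, ho, a, ha, rfl⟩ ⟨o', ho', a', ha', rfl⟩
        refine ⟨o * o', mul_mem ho ho', a * a', mul_mem ha ha', ?_⟩
        calc o * a * (o' * a') = o * (a * o') * a' := by group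
          _ = o * (o' * a) * a' := by rw [(hAf a ha o' ho').eq]
          _ = _ := by group
      inv_mem' := by
        rintro _ ⟨o, ho, a, ha, rfl⟩
        exact ⟨o⁻¹, inv_mem ho, a⁻¹, inv_mem ha, by
          rw [mul_inv_rev]; exact (hAf a ha o ho).inv_inv.eq⟩ }
  have hmem : ∀ g, g ∈ K ↔ ∃ o ∈ oddC t, ∃ a ∈ A, g = o * a := fun _ => Iff.rfl
  have hcomm : ∀ x ∈ K, ∀ y ∈ K, Commute x y := by
    rintro _ ⟨o, ho, a, ha, rfl⟩ _ ⟨o', ho', a', ha', rfl⟩
    exact ((h.oddC_comm ht ho ho').mul_right (hAf a' ha' o ho).symm).mul_left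
      ((hAf a ha o' ho').mul_right (hAc a ha a' ha'))
  have hcent : ∀ x ∈ K, Commute x t := by
    rintro _ ⟨o, ho, a, ha, rfl⟩
    exact ((h.mem_oddC_iff ht).1 ho).1.mul_left (hS a (hAS ha))
  have hss : s * s = 1 := (hout s hsS hsA).1
  have hsK : s ∉ K := by
    rintro ⟨o, ho, a, ha, he⟩
    have : o = 1 := h.oddC_inter ht ho S.2 (by
      rw [eq_mul_inv_of_mul_eq he.symm]; exact mul_mem hsS (inv_mem (hAS ha)))
    rw [this, one_mul] at he
    exact hsA (he ▸ ha)
  have hdec : ∀ x, Commute x t → x ∉ K → ∃ o ∈ oddC t, ∃ z ∈ (S : Subgroup G), z ∉ A ∧ x = o * z := by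
    intro x hx hxK
    obtain ⟨o, ho, z, hz, rfl⟩ := h.decomp ht S hS hx
    exact ⟨o, ho, z, hz, fun hzA => hxK ⟨o, ho, z, hzA, rfl⟩, rfl⟩
  have huniqK : ∀ k ∈ K, k * k = 1 → k = 1 ∨ k = t := by
    rintro _ ⟨o, ho, a, ha, rfl⟩ hkk
    have hoo : o * o * (a * a) = 1 := by
      rw [← hkk]
      calc o * o * (a * a) = o * (o * a) * a := by group
        _ = o * (a * o) * a := by rw [(hAf a ha o ho).eq]
        _ = _ := by group
    have h2 : o * o = 1 := h.oddC_inter ht (mul_mem ho ho) S.2 (by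
      rw [eq_inv_of_mul_eq_one_left hoo]; exact inv_mem (hAS (mul_mem ha ha)))
    obtain rfl := odd_sq_one ((h.mem_oddC_iff ht).1 ho).2 h2
    rw [one_mul] at hkk ⊢
    exact huniq a ha hkk
  have houtK : ∀ x, Commute x t → x ∉ K → x * x = 1 ∧ ∀ k ∈ K, x * k * x⁻¹ = k⁻¹ := by
    intro x hx hxK
    obtain ⟨o, ho, z, hz, hzA, rfl⟩ := hdec x hx hxK
    obtain ⟨hzz, hzinv, hzo⟩ := hout z hz hzA
    refine ⟨?_, ?_⟩
    · calc o * z * (o * z) = o * (z * o * z⁻¹) * (z * z) := by group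
        _ = 1 := by rw [hzo o ho, hzz]; group
    · rintro _ ⟨o', ho', a, ha, rfl⟩
      calc o * z * (o' * a) * (o * z)⁻¹ = o * ((z * o' * z⁻¹) * (z * a * z⁻¹)) * o⁻¹ := by group
        _ = o * (o'⁻¹ * a⁻¹) * o⁻¹ := by rw [hzo o' ho', hzinv a ha]
        _ = o'⁻¹ * a⁻¹ * o * o⁻¹ := by
          rw [((h.oddC_comm ht ho (inv_mem ho')).mul_right (hAf a ha o ho).inv_left.symm).eq]
        _ = (o' * a)⁻¹ := by rw [mul_inv_cancel_right, (hAf a ha o' ho').symm.inv_inv.eq, mul_inv_rev]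
  refine ⟨K, ⟨ht, two_of_mul_self hss (fun e => hsA (e ▸ one_mem A)), ⟨1, one_mem _, t, htA, by simp⟩, hsK,
    hsS, hcomm, hcent, hS, houtK, ?_, huniqK, ?_⟩⟩
  · intro x hx hxK
    obtain ⟨o, ho, z, hz, hzA, rfl⟩ := hdec x hx hxK
    exact ⟨o, ho, z * s, hmul z hz hzA s hsS hsA, by group⟩
  · intro g hg
    rw [Subgroup.eq_bot_iff_forall]
    rintro k ⟨hk, k', hk', hkk'⟩
    have hke : g * k' * g⁻¹ = k := hkk'
    by_contra hk1
    set t' := g * t * g⁻¹ with ht'
    have ht'2 : orderOf t' = 2 := (Invol.orderOf_conj g t).trans ht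
    have hk't' : Commute k t' := by
      rw [← hke]; exact (Commute.conj_iff g).2 (hcent k' hk')
    have hgt : t' = t → False := fun e => hg (mul_inv_eq_iff_eq_mul.1 e)
    rcases Nat.even_or_odd (orderOf k) with he | ho
    · obtain ⟨m, hm⟩ := he
      have hm0 : 0 < m := by have := orderOf_pos k; omega
      have hkm2 : orderOf (k ^ m) = 2 := by
        rw [orderOf_pow' _ (by omega), hm, show m + m = 2 * m by ring,
          Nat.gcd_eq_right (dvd_mul_left m 2), Nat.mul_div_cancel _ hm0]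
      have h1 : k ^ m = t := (huniqK _ (pow_mem hk m) (mul_self_of_two hkm2)).resolve_left (ne_one_of_two hkm2)
      have h2 : k' ^ m = t :=
        (huniqK _ (pow_mem hk' m) (mul_self_of_two (by
          rw [← Invol.orderOf_conj g, ← conj_pow, hke]; exact hkm2))).resolve_left (fun e =>
            ne_one_of_two hkm2 (by rw [← hke, conj_pow, e, mul_one, mul_inv_cancel]))
      apply hgt
      rw [ht', ← h2, ← conj_pow, hke, h1, h2]
    · have hC := h.cent_eq ht ht'2 ho hk1 (hcent k hk) hk't'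
      have ht't : Commute t' t := by
        have : t' ∈ centralizer ({t} : Set G) := by
          rw [hC]; exact mem_centralizer_singleton_iff.2 rfl
        exact mem_centralizer_singleton_iff.1 this
      have hkc : Commute t' k := hk't'.symm
      by_cases ht'K : t' ∈ K
      · exact hgt ((huniqK _ ht'K (mul_self_of_two ht'2)).resolve_left (ne_one_of_two ht'2))
      · have h3 := (houtK t' ht't ht'K).2 k hk
        rw [hkc.eq, mul_inv_cancel_right] at h3
        exact hk1 (odd_sq_one ho (by nth_rw 2 [h3]; exact mul_inv_cancel k))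

end Cfsg.Agent.IIGroups
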