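import Cfsg.Agent.IIGroups.TwoGroup

/-!
# The Sylow 2-subgroups are abelian or generalised dihedral
-/

set_option autoImplicit false

namespace Cfsg.Agent.IIGroups

open Subgroup
open scoped Pointwise

universe u

variable {G : Type u} [Group G] [Finite G]

theorem II.oddC_inter {t x : G} (h : II G) (ht : orderOf t = 2) (hx : x ∈ oddC t) {S : Subgroup G}
    (hS : IsPGroup 2 S) (hxS : x ∈ S) : x = 1 := by
  obtain ⟨j, hj⟩ := pow_two_order hS hxS
  have hodd := ((h.mem_oddC_iff ht).1 hx).2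
  rcases Nat.eq_zero_or_pos j with rfl | hp
  · exact orderOf_eq_one_iff.1 (by rw [hj, pow_zero])
  · rw [hj] at hodd
    exact absurd hodd (Nat.not_odd_iff_even.2 (Nat.even_pow.2 ⟨even_two, by omega⟩))

theorem mem_smul_iff {S : Sylow 2 G} {d y : G} :
    y ∈ ((d • S : Sylow 2 G) : Subgroup G) ↔ d⁻¹ * y * d ∈ (S : Subgroup G) := by
  rw [Sylow.coe_subgroup_smul, Subgroup.mem_pointwise_smul_iff_inv_smul_mem]
  simp [MulAut.smul_def]

/-- A Sylow subgroup centralising `s` and containing a given part of the centralizer of `s`. -/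
theorem exists_sylow_cent (S : Sylow 2 G) {s g : G} (hg : ∀ y ∈ (S : Subgroup G), Commute (g * y * g⁻¹) s) :
    ∃ T : Sylow 2 G, (∀ y ∈ (T : Subgroup G), Commute y s) ∧
      ∀ y ∈ (S : Subgroup G), Commute y s → y ∈ (T : Subgroup G) := by
  haveI := Fact.mk Nat.prime_two
  set C := centralizer ({s} : Set G) with hC
  have hgS : ((g • S : Sylow 2 G) : Subgroup G) ≤ C := by
    intro y hy
    have := hg _ (mem_smul_iff.1 hy)
    rw [show g * (g⁻¹ * y * g) * g⁻¹ = y by group] at this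
    exact mem_centralizer_singleton_iff.2 this
  have hD : IsPGroup 2 (((S : Subgroup G)).subgroupOf C) :=
    S.2.comap_of_injective C.subtype C.subtype_injective
  obtain ⟨P, hP⟩ := hD.exists_le_sylow
  obtain ⟨c, hc⟩ := MulAction.exists_smul_eq C ((g • S).subtype hgS) P
  refine ⟨((c : G) * g) • S, fun y hy => ?_, fun y hy hys => ?_⟩
  · rw [mul_smul, mem_smul_iff] at hy
    have h1 := mem_centralizer_singleton_iff.1 (hgS hy)
    have hcs : Commute (c : G) s := mem_centralizer_singleton_iff.1 c.2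
    have := ((hcs.mul_left h1).mul_left hcs.inv_left)
    rwa [show (c : G) * ((c : G)⁻¹ * y * c) * (c : G)⁻¹ = y by group] at this
  · have h1 : (⟨y, mem_centralizer_singleton_iff.2 hys⟩ : C) ∈ (P : Subgroup C) := hP hy
    rw [← hc, Sylow.coe_subgroup_smul, Subgroup.mem_pointwise_smul_iff_inv_smul_mem] at h1
    rw [mul_smul, mem_smul_iff]
    simpa [MulAut.smul_def, mem_subgroupOf] using h1

theorem II.inverted (h : II G) {S : Subgroup G} (hS : IsPGroup 2 S) {s x : G} (hs : orderOf s = 2)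
    (hsS : s ∈ S) (hD : ∀ y ∈ S, Commute y s → y * y = 1) (hx : x ∈ S) (hb : x * x ≠ 1) :
    s * x * s⁻¹ = x⁻¹ := by
  have hss := mul_self_of_two hs
  have hsi := inv_of_two hs
  obtain ⟨k, hkS, hk⟩ := exists_root hS hx (fun e => hb (by rw [e, mul_one]))
  set y := s * x * s⁻¹ with hy
  have hyx : y ∈ zpowers x := h.zpowers_normal hS hx hb hsS
  have hxy : Commute x y := by
    obtain ⟨i, hi⟩ := hyx
    rw [← hi]; exact Commute.self_zpow x i
  have hsy : s * y * s⁻¹ = x := by
    rw [hy, show s * (s * x * s⁻¹) * s⁻¹ = s * s * x * (s * s)⁻¹ by group, hss]; group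
  have hP : x * y * (x * y) = 1 := by
    refine hD _ (mul_mem hx (mul_mem (mul_mem hsS hx) (inv_mem hsS))) ?_
    show x * y * s = s * (x * y)
    calc x * y * s = (s * y * s⁻¹) * (s * x * s⁻¹) * s := by rw [hsy, ← hy]
      _ = s * (y * x) := by group
      _ = s * (x * y) := by rw [hxy.eq]
  by_cases h1 : x * y = 1
  · exact eq_inv_of_mul_eq_one_right h1
  exfalso
  have hxyk : x * y = k :=
    Root.unique ⟨two_of_mul_self hP h1, mul_mem (mem_zpowers x) hyx⟩ hk
  have hyk : y = x⁻¹ * k := by rw [← hxyk, inv_mul_cancel_left]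
  by_cases h4 : x * x * (x * x) = 1
  · have hxk : x * x = k := (root_of_sq hb h4).unique hk
    rw [← hxk, inv_mul_cancel_left] at hyk
    exact hb (hD x hx (mul_inv_eq_iff_eq_mul.1 hyk).symm)
  set w := x * s with hw
  have hww : w * w = k := by
    calc w * w = x * (s * x * s) := by rw [hw]; group
      _ = x * y := by rw [hy, hsi]
      _ = k := hxyk
  have hwS : w ∈ S := mul_mem hx hsS
  have hwb : w * w ≠ 1 := by rw [hww]; exact ne_one_of_two hk.1
  have hxk := hk.commute.eq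
  rcases four_cases (by rw [hww]; exact mul_self_of_two hk.1) (h.zpowers_normal hS hwS hwb hx) (by
      rw [show x * w * x⁻¹ * (x * w * x⁻¹) = x * (w * w) * x⁻¹ by group, hww, hxk, mul_inv_cancel_right]
      exact ne_one_of_two hk.1) with e | e
  · apply h4
    have h2 : x * x * y⁻¹ = x := by
      have h3 : x * w * x⁻¹ = x * x * y⁻¹ * s := by rw [hw, hy]; group
      rw [h3, hw] at e
      exact mul_right_cancel e
    have h3 : x = y := by
      rw [mul_inv_eq_iff_eq_mul] at h2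
      exact mul_left_cancel h2
    rw [← h3] at hxyk
    rw [hxyk]; exact mul_self_of_two hk.1
  · apply hb
    have h3 : x * w * x⁻¹ = x * x * y⁻¹ * s := by rw [hw, hy]; group
    have h4' : w⁻¹ = y⁻¹ * s := by
      rw [hw, hy, mul_inv_rev, show (s * x * s⁻¹)⁻¹ * s = s * x⁻¹ * (s⁻¹ * s) by group, inv_mul_cancel,
        mul_one, hsi]
    rw [h3, h4'] at e
    exact mul_eq_right.1 (mul_right_cancel e)

/-- The Sylow 2-subgroups. -/
theorem II.shape (h : II G) (hss : SS G) (S : Sylow 2 G) :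
    (∀ x ∈ (S : Subgroup G), ∀ y ∈ (S : Subgroup G), Commute x y) ∨
      ∃ A, GenDih (S : Subgroup G) A := by
  haveI := Fact.mk Nat.prime_two
  have hS := S.2
  rcases h.commute_or_root hS with hc | ⟨z, x0, hx0, hb0, hmax, hz, hall⟩
  · exact shape_of_commute hc
  refine shape_of_commute ?_
  have hzS : z ∈ (S : Subgroup G) := (zpowers_le.2 hx0) hz.2
  have hzc : ∀ y ∈ (S : Subgroup G), Commute y z := fun y hy => h.roots_central hS hx0 hb0 hz hy
  obtain ⟨g, hgS, hgz⟩ := hss.exists_conj S hz.1 hzS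
  set s := g * z * g⁻¹ with hs
  have hs2 : orderOf s = 2 := (Invol.orderOf_conj g z).trans hz.1
  have hnc : ¬ ∀ y ∈ (S : Subgroup G), Commute y s := by
    intro hall'
    obtain ⟨n, hn, he⟩ := S.conj_eq_normalizer_conj_of_mem_centralizer z g⁻¹
      (mem_centralizer_iff.2 fun y hy => (hzc y hy).eq) (by
        rw [inv_inv]; exact mem_centralizer_iff.2 fun y hy => (hall' y hy).eq)
    rw [inv_inv, ← hs] at he
    have hni := inv_mem hn
    have hm : n⁻¹ * x0 * n⁻¹⁻¹ ∈ (S : Subgroup G) := (mem_normalizer_iff.1 hni x0).1 hx0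
    have hr := hall _ hm (fun e => hb0 (by
      rw [← conj_eq_one_iff (a := n⁻¹) (b := x0 * x0), ← e]; group)) (Invol.orderOf_conj _ _)
    have h1 := (hz.conj n⁻¹).unique hr
    rw [inv_inv] at h1
    exact hgz (he.trans h1)
  obtain ⟨T, hTs, hDT⟩ := exists_sylow_cent S (s := s) (g := g) (fun y hy => by
    rw [hs]; exact (Commute.conj_iff g).2 (hzc y hy))
  have hsT : s ∈ (T : Subgroup G) := hDT s hgS (Commute.refl s)
  have hD : ∀ y ∈ (S : Subgroup G), Commute y s → y * y = 1 := by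
    intro y hy hys
    by_contra hb
    apply hnc
    obtain ⟨r, -, hr⟩ := exists_root hS hy (fun e => hb (by rw [e, mul_one]))
    have hSr : ∀ w ∈ (S : Subgroup G), Commute w r := fun w hw => h.roots_central hS hy hb hr hw
    have hTr : ∀ w ∈ (T : Subgroup G), Commute w r := fun w hw =>
      h.roots_central T.2 (hDT y hy hys) hb hr hw
    set C := centralizer ({r} : Set G) with hC
    have hSC : (S : Subgroup G) ≤ C := fun w hw => mem_centralizer_singleton_iff.2 (hSr w hw)
    have hTC : (T : Subgroup G) ≤ C := fun w hw => mem_centralizer_singleton_iff.2 (hTr w hw)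
    obtain ⟨c, hc⟩ := MulAction.exists_smul_eq C (S.subtype hSC) (T.subtype hTC)
    obtain ⟨o, ho, s', hs', hcd⟩ := h.decomp hr.1 S hSr (mem_centralizer_singleton_iff.1 c.2)
    have hmemT : ∀ w : G, ∀ hw : w ∈ C, w ∈ (T : Subgroup G) ↔ o⁻¹ * w * o ∈ (S : Subgroup G) := by
      intro w hw
      have h1 : (⟨w, hw⟩ : C) ∈ ((T.subtype hTC : Sylow 2 C) : Subgroup C) ↔ w ∈ (T : Subgroup G) := Iff.rfl
      rw [← h1, ← hc, Sylow.coe_subgroup_smul, Subgroup.mem_pointwise_smul_iff_inv_smul_mem]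
      simp only [MulAut.smul_def, mem_subgroupOf, Sylow.coe_subtype, ← map_inv, MulAut.conj_apply]
      push_cast
      rw [hcd, show (o * s')⁻¹ * w * (o * s')⁻¹⁻¹ = s'⁻¹ * (o⁻¹ * w * o) * s' by group]
      refine ⟨fun hm => ?_, fun hm => mul_mem (mul_mem (inv_mem hs') hm) hs'⟩
      simpa [mul_assoc] using mul_mem (mul_mem hs' hm) (inv_mem hs')
    have hsr : Commute s r := hTr s hsT
    have hor : Commute o r := ((h.mem_oddC_iff hr.1).1 ho).1
    have h1 : o⁻¹ * s * o ∈ (S : Subgroup G) := (hmemT s (hTC hsT)).1 hsT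
    have h2 : s⁻¹ * (o⁻¹ * s * o) = 1 := by
      refine h.oddC_inter hr.1 ?_ hS (mul_mem (inv_mem hgS) h1)
      rw [show s⁻¹ * (o⁻¹ * s * o) = (s⁻¹ * o⁻¹ * s⁻¹⁻¹) * o by group]
      exact mul_mem (h.oddC_conj hr.1 (inv_mem ho) hsr.inv_left) ho
    have h3 : o⁻¹ * s * o = s := (inv_mul_eq_one.1 h2).symm
    intro w hw
    have hwC : o * w * o⁻¹ ∈ C :=
      mem_centralizer_singleton_iff.2 ((hor.mul_left (hSr w hw)).mul_left hor.inv_left).eq
    have h4 : o * w * o⁻¹ ∈ (T : Subgroup G) := (hmemT _ hwC).2 (by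
      rwa [show o⁻¹ * (o * w * o⁻¹) * o = w by group])
    have h5 := (Commute.conj_iff o⁻¹).2 (hTs _ h4)
    rwa [inv_inv, h3, show o⁻¹ * (o * w * o⁻¹) * o = w by group] at h5
  intro a ha hab b hb hbb
  have hinv : ∀ x ∈ (S : Subgroup G), x * x ≠ 1 → s * x * s⁻¹ = x⁻¹ := fun x hx hxx =>
    h.inverted hS hs2 hgS hD hx hxx
  set c := a * b * a⁻¹ * b⁻¹ with hc
  have hcb : c ∈ zpowers b := mul_mem (h.zpowers_normal hS hb hbb ha) (inv_mem (mem_zpowers b))
  have hca : c ∈ zpowers a := by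
    rw [hc, show a * b * a⁻¹ * b⁻¹ = a * (b * a * b⁻¹)⁻¹ by group]
    exact mul_mem (mem_zpowers a) (inv_mem (h.zpowers_normal hS ha hab hb))
  have hca' : Commute c a := by
    obtain ⟨i, hi⟩ := hca
    rw [← hi]; exact Commute.zpow_self a i
  have hcb' : Commute c b := by
    obtain ⟨i, hi⟩ := hcb
    rw [← hi]; exact Commute.zpow_self b i
  have hba : a * b = c * (b * a) := by rw [hc]; group
  have hcS : c ∈ (S : Subgroup G) := (zpowers_le.2 ha) hca
  have hcc : c * c = 1 := by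
    refine hD c hcS ?_
    have h1 : s * c * s⁻¹ = c := by
      calc s * c * s⁻¹ = (s * a * s⁻¹) * (s * b * s⁻¹) * (s * a * s⁻¹)⁻¹ * (s * b * s⁻¹)⁻¹ := by
            rw [hc]; group
        _ = a⁻¹ * b⁻¹ * (a * b) := by rw [hinv a ha hab, hinv b hb hbb]; group
        _ = a⁻¹ * b⁻¹ * ((b * a) * c) := by rw [hba, (hcb'.mul_right hca').eq]
        _ = c := by group
    exact (mul_inv_eq_iff_eq_mul.1 h1).symm
  by_cases hc1 : c = 1
  · rw [hc1, one_mul] at hba; exact hba
  have key : ∀ x, x ∈ (S : Subgroup G) → x * x ≠ 1 → (x = a * b ∨ x = a * b⁻¹) → Commute a b := by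
    intro x hx hxx hx'
    have h1 := hinv x hx hxx
    rcases hx' with rfl | rfl
    · rw [show s * (a * b) * s⁻¹ = (s * a * s⁻¹) * (s * b * s⁻¹) by group, hinv a ha hab,
        hinv b hb hbb, mul_inv_rev] at h1
      have h2 : Commute a⁻¹ b⁻¹ := h1
      simpa using h2.inv_inv
    · rw [show s * (a * b⁻¹) * s⁻¹ = (s * a * s⁻¹) * (s * b * s⁻¹)⁻¹ by group, hinv a ha hab,
        hinv b hb hbb, inv_inv, mul_inv_rev, inv_inv] at h1
      have h2 : Commute a⁻¹ b := h1
      simpa using h2.inv_left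
  by_cases h1 : a * b * (a * b) = 1
  swap
  · exact key _ (mul_mem ha hb) h1 (Or.inl rfl)
  by_cases h2 : a * b⁻¹ * (a * b⁻¹) = 1
  swap
  · exact key _ (mul_mem ha (inv_mem hb)) h2 (Or.inr rfl)
  exfalso
  have hci : c⁻¹ = c := inv_eq_of_mul_eq_one_right hcc
  have hba' : b * a = c * (a * b) := by rw [hba, ← mul_assoc, hcc, one_mul]
  have hbi : b⁻¹ * a = c * (a * b⁻¹) := by
    have : a * b = b * (c * a) := by rw [← mul_assoc, ← hcb'.eq, mul_assoc]; exact hba
    calc b⁻¹ * a = b⁻¹ * (a * b) * b⁻¹ := by group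
      _ = c * (a * b⁻¹) := by rw [this]; group
  have e1 : c * (a * a * (b * b)) = 1 := by
    calc c * (a * a * (b * b)) = (c * a) * (a * b) * b := by group
      _ = (a * c) * (a * b) * b := by rw [hca'.eq]
      _ = a * (c * (a * b)) * b := by group
      _ = a * (b * a) * b := by rw [hba']
      _ = 1 := by rw [← h1]; group
  have e2 : c * (a * a * (b * b)⁻¹) = 1 := by
    calc c * (a * a * (b * b)⁻¹) = (c * a) * (a * b⁻¹) * b⁻¹ := by group
      _ = (a * c) * (a * b⁻¹) * b⁻¹ := by rw [hca'.eq]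
      _ = a * (c * (a * b⁻¹)) * b⁻¹ := by group
      _ = a * (b⁻¹ * a) * b⁻¹ := by rw [hbi]
      _ = 1 := by rw [← h2]; group
  have e3 : b * b = (b * b)⁻¹ := mul_left_cancel (mul_left_cancel (e1.trans e2.symm))
  have hb4 : b * b * (b * b) = 1 := by nth_rw 1 [e3]; exact inv_mul_cancel _
  have hbc : b * b = c := (root_of_sq hbb hb4).unique ⟨two_of_mul_self hcc hc1, hcb⟩
  rw [hbc] at e1
  apply hab
  calc a * a = c * c * (a * a) := by rw [hcc, one_mul]
    _ = c * (c * (a * a)) := by group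
    _ = c * (a * a * c) := by rw [(hca'.mul_right hca').eq]
    _ = 1 := e1

end Cfsg.Agent.IIGroups
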