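import Cfsg.Agent.IIGroups.Basic
import Cfsg.Agent.Invol.Count

/-!
# Two-subgroups of a group in which the subgroups of an even cyclic group have a common normalizer
-/

set_option autoImplicit false

namespace Cfsg.Agent.IIGroups

open Subgroup

universe u

variable {G : Type u} [Group G] [Finite G]

/-- `k` is the involution of the cyclic group of `x`. -/
def Root (x k : G) : Prop := orderOf k = 2 ∧ k ∈ zpowers x

theorem Root.unique {x k l : G} (hk : Root x k) (hl : Root x l) : k = l :=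
  Invol.eq_of_isCyclic_of_orderOf_two (inferInstance : IsCyclic (zpowers x)) hk.1 hl.1 hk.2 hl.2

theorem Root.commute {x k : G} (hk : Root x k) : Commute x k := by
  obtain ⟨i, hi⟩ := hk.2
  rw [← hi]; exact Commute.self_zpow x i

theorem Root.conj {x k : G} (hk : Root x k) (g : G) : Root (g * x * g⁻¹) (g * k * g⁻¹) := by
  refine ⟨(Invol.orderOf_conj g k).trans hk.1, ?_⟩
  obtain ⟨i, hi⟩ := hk.2
  exact ⟨i, by show (g * x * g⁻¹) ^ i = _; rw [conj_zpow, show x ^ i = k from hi]⟩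

theorem root_of_sq {a : G} (h1 : a * a ≠ 1) (h2 : a * a * (a * a) = 1) : Root a (a * a) :=
  ⟨two_of_mul_self h2 h1, ⟨2, by show a ^ (2 : ℤ) = _; rw [show (2 : ℤ) = ((2 : ℕ) : ℤ) from rfl, zpow_natCast, sq]⟩⟩

theorem four_cases {a y : G} (h2 : a * a * (a * a) = 1) (hy : y ∈ zpowers a) (hy2 : y * y ≠ 1) :
    y = a ∨ y = a⁻¹ := by
  obtain ⟨i, rfl⟩ := hy
  have h4 : a ^ (4 : ℤ) = 1 := by
    rw [← h2, show (4 : ℤ) = ((4 : ℕ) : ℤ) from rfl, zpow_natCast, show 4 = 2 + 2 from rfl, pow_add, sq]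
  have hi : ∀ j : ℤ, a ^ j = a ^ (j % 4) := fun j => by
    conv_lhs => rw [← Int.ediv_mul_add_emod j 4, zpow_add, mul_comm, zpow_mul, h4, one_zpow, one_mul]
  simp only at hy2 ⊢
  rw [hi i] at hy2 ⊢
  have h' : i % 4 = 0 ∨ i % 4 = 1 ∨ i % 4 = 2 ∨ i % 4 = 3 := by omega
  rcases h' with e | e | e | e <;> rw [e] at hy2 ⊢
  · simp at hy2
  · simp
  · exfalso; apply hy2; rw [← zpow_add]; exact h4
  · right
    exact eq_inv_of_mul_eq_one_left (by rw [← zpow_add_one]; exact h4)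

variable {S : Subgroup G} (hS : IsPGroup 2 S)
include hS

theorem pow_two_order {x : G} (hx : x ∈ S) : ∃ j, orderOf x = 2 ^ j := by
  obtain ⟨j, hj⟩ := IsPGroup.iff_orderOf.1 hS ⟨x, hx⟩
  exact ⟨j, by rw [← hj, Subgroup.orderOf_mk]⟩

theorem exists_root {x : G} (hx : x ∈ S) (hx1 : x ≠ 1) : ∃ k ∈ S, Root x k := by
  obtain ⟨j, hj⟩ := pow_two_order hS hx
  obtain ⟨j, rfl⟩ : ∃ i, j = i + 1 := ⟨j - 1, by
    rcases Nat.eq_zero_or_pos j with rfl | hp
    · exact absurd (orderOf_eq_one_iff.1 (by rw [hj, pow_zero])) hx1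
    · omega⟩
  refine ⟨x ^ 2 ^ j, pow_mem hx _, ?_, pow_mem (mem_zpowers x) _⟩
  rw [orderOf_pow' _ (pow_ne_zero _ two_ne_zero), hj, Nat.gcd_eq_right (pow_dvd_pow 2 (by omega)),
    pow_succ, Nat.mul_div_cancel_left _ (pow_pos two_pos _)]

theorem Root.of_sq {x k : G} (hx : x ∈ S) (hb : x * x ≠ 1) (hk : Root x k) : Root (x * x) k := by
  obtain ⟨l, -, hl⟩ := exists_root hS (mul_mem hx hx) hb
  have : Root x l := ⟨hl.1, (zpowers_le.2 (mul_mem (mem_zpowers x) (mem_zpowers x))) hl.2⟩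
  rwa [hk.unique this]

theorem exists_sqrt {x k : G} (hx : x ∈ S) (hb : x * x ≠ 1) (hk : Root x k) :
    ∃ a ∈ S, a * a = k := by
  obtain ⟨j, hj⟩ := pow_two_order hS hx
  obtain ⟨j, rfl⟩ : ∃ i, j = i + 2 := ⟨j - 2, by
    by_contra hlt
    have hd : orderOf x ∣ 2 := by rw [hj]; exact (pow_dvd_pow 2 (by omega : j ≤ 1)).trans (by simp)
    exact hb (by rw [← sq]; exact orderOf_dvd_iff_pow_eq_one.1 hd)⟩
  refine ⟨x ^ 2 ^ j, pow_mem hx _, ?_⟩
  refine (Root.unique ⟨?_, mul_mem (pow_mem (mem_zpowers x) _) (pow_mem (mem_zpowers x) _)⟩ hk)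
  rw [← pow_add, ← two_mul, ← pow_succ', orderOf_pow' _ (pow_ne_zero _ two_ne_zero), hj,
    Nat.gcd_eq_right (pow_dvd_pow 2 (by omega)), pow_succ 2 (j + 1),
    Nat.mul_div_cancel_left _ (pow_pos two_pos _)]

theorem eq_one_of_roots {a b c k l : G} (ha : a ∈ S) (hk : Root a k) (hl : Root b l) (hne : k ≠ l)
    (hca : c ∈ zpowers a) (hcb : c ∈ zpowers b) : c = 1 := by
  by_contra hc
  obtain ⟨r, -, hr⟩ := exists_root hS ((zpowers_le.2 ha) hca) hc
  exact hne ((hk.unique ⟨hr.1, (zpowers_le.2 hca) hr.2⟩).trans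
    (hl.unique ⟨hr.1, (zpowers_le.2 hcb) hr.2⟩).symm)

theorem commute_of_roots (h : II G) {a b k l : G} (ha : a ∈ S)
    (hk : Root a k) (hl : Root b l) (hne : k ≠ l) (hbk : Commute b k) (hal : Commute a l) :
    Commute a b := by
  have h1 : a * b * a⁻¹ * b⁻¹ ∈ zpowers b :=
    mul_mem (h.conj_mem hl.1 hl.2 hal) (inv_mem (mem_zpowers b))
  have h2 : a * b * a⁻¹ * b⁻¹ ∈ zpowers a := by
    rw [show a * b * a⁻¹ * b⁻¹ = a * (b * a * b⁻¹)⁻¹ by group]
    exact mul_mem (mem_zpowers a) (inv_mem (h.conj_mem hk.1 hk.2 hbk))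
  have := eq_one_of_roots hS ha hk hl hne h2 h1
  rw [mul_inv_eq_one, mul_inv_eq_iff_eq_mul] at this
  exact this

/-- All roots are central. -/
theorem II.roots_central (h : II G) {x k y : G} (hx : x ∈ S) (hb : x * x ≠ 1) (hk : Root x k)
    (hy : y ∈ S) : Commute y k := by
  classical
  by_contra hnc
  -- a root with largest centralizer among those which are not central
  let Bad : G → Prop := fun r => (∃ a ∈ S, a * a = r) ∧ orderOf r = 2 ∧ ∃ y ∈ S, ¬ Commute y r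
  haveI : Nonempty {r : G // Bad r} := ⟨⟨k, exists_sqrt hS hx hb hk, hk.1, y, hy, hnc⟩⟩
  obtain ⟨⟨k, hkbad⟩, hmax⟩ := Finite.exists_max (fun r : {r : G // Bad r} =>
    Nat.card (S ⊓ centralizer ({(r : G)} : Set G) : Subgroup G))
  clear! x y
  obtain ⟨⟨a, haS, hak⟩, hk2, y, hy, hyk⟩ := hkbad
  set U := S ⊓ centralizer ({k} : Set G) with hU
  have hmemU : ∀ z, z ∈ U ↔ z ∈ S ∧ Commute z k := fun z => by
    rw [hU, Subgroup.mem_inf, mem_centralizer_singleton_iff]; rfl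
  obtain ⟨w, hwS, hwU, hw2, hwn⟩ : ∃ w, w ∈ S ∧ w ∉ U ∧ w * w ∈ U ∧ ∀ z, z ∈ U ↔ w * z * w⁻¹ ∈ U := by
    haveI : Group.IsNilpotent S := hS.isNilpotent
    have hlt : U.subgroupOf S < ⊤ := lt_top_iff_ne_top.2 fun e =>
      hyk ((hmemU y).1 (e ▸ Subgroup.mem_top (⟨y, hy⟩ : S) : (⟨y, hy⟩ : S) ∈ U.subgroupOf S)).2
    obtain ⟨⟨v, hvS⟩, hvN, hvU⟩ := SetLike.exists_of_lt (Group.normalizerCondition_of_isNilpotent _ hlt)
    rw [mem_subgroupOf] at hvU
    have hv : v ∈ normalizer (U : Set G) := by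
      refine mem_normalizer_fintype fun z hz => ?_
      exact ((mem_normalizer_iff.1 hvN) ⟨z, ((hmemU z).1 hz).1⟩).1 hz
    have hex : ∃ j, v ^ 2 ^ j ∈ U := by
      obtain ⟨j, hj⟩ := pow_two_order hS hvS
      exact ⟨j, by rw [← hj, pow_orderOf_eq_one]; exact one_mem _⟩
    obtain ⟨j, hj⟩ : ∃ j, Nat.find hex = j + 1 := ⟨Nat.find hex - 1, by
      rcases Nat.eq_zero_or_pos (Nat.find hex) with h0 | h0
      · have := Nat.find_spec hex
        rw [h0, pow_zero, pow_one] at this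
        exact absurd this hvU
      · omega⟩
    refine ⟨v ^ 2 ^ j, pow_mem hvS _, Nat.find_min hex (by omega), ?_, fun z =>
      mem_normalizer_iff.1 (pow_mem hv _) z⟩
    have := Nat.find_spec hex
    rwa [hj, pow_succ, pow_mul, sq] at this
  have hwn' : ∀ z ∈ U, w⁻¹ * z * w ∈ U := fun z hz => (hwn _).2 (by
    rwa [show w * (w⁻¹ * z * w) * w⁻¹ = z by group])
  set b := w⁻¹ * a * w with hbdef
  set k' := w⁻¹ * k * w with hk'def
  set u := w * w with hu
  have hk1 := ne_one_of_two hk2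
  have hkk := mul_self_of_two hk2
  have haU : a ∈ U := (hmemU a).2 ⟨haS, by rw [← hak]; exact (Commute.refl a).mul_right (Commute.refl a)⟩
  have hbU : b ∈ U := hwn' a haU
  have hbS := ((hmemU b).1 hbU).1
  have hbk : b * b = k' := by rw [hbdef, hk'def, ← hak]; group
  have hk'2 : orderOf k' = 2 := by
    rw [hk'def, show w⁻¹ * k * w = w⁻¹ * k * w⁻¹⁻¹ by group, Invol.orderOf_conj, hk2]
  have hk'k : k' ≠ k := fun e => hwU ((hmemU w).2 ⟨hwS, by
    show w * k = k * w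
    calc w * k = w * k' := by rw [e]
      _ = k * w := by rw [hk'def]; group⟩)
  have hkU : k ∈ U := (hmemU k).2 ⟨hak ▸ mul_mem haS haS, Commute.refl k⟩
  have hUk' : ∀ z ∈ U, Commute z k' := fun z hz => by
    have h1 := (((hmemU _).1 ((hwn z).1 hz)).2).eq
    show z * k' = k' * z
    calc z * k' = w⁻¹ * ((w * z * w⁻¹) * k) * w := by rw [hk'def]; group
      _ = k' * z := by rw [h1, hk'def]; group
  have hra : Root a k := hak ▸ root_of_sq (hak.symm ▸ hk1) (by rw [hak]; exact hkk)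
  have hrb : Root b k' := hbk ▸ root_of_sq (hbk.symm ▸ ne_one_of_two hk'2)
    (by rw [hbk]; exact mul_self_of_two hk'2)
  have hab : Commute a b := commute_of_roots hS h haS hra hrb hk'k.symm ((hmemU b).1 hbU).2 (hUk' a haU)
  have hkk' : Commute k k' := hUk' k hkU
  set m := k * k' with hm
  have hm1 : m ≠ 1 := fun e => hk'k ((inv_of_two hk2).symm.trans (inv_eq_of_mul_eq_one_right e)).symm
  have hmm : m * m = 1 := by
    rw [hm, mul_assoc, ← mul_assoc k' k k', ← hkk'.eq, mul_assoc k k' k', mul_self_of_two hk'2,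
      mul_one, hkk]
  have habm : a * b * (a * b) = m := by
    rw [hm, ← hak, ← hbk]
    calc a * b * (a * b) = a * (b * a) * b := by group
      _ = a * (a * b) * b := by rw [hab.eq]
      _ = a * a * (b * b) := by group
  have habS := mul_mem haS hbS
  -- `u = w²`
  have huU : u ∈ U := hw2
  have hwm : Commute w m := by
    have h1 : w⁻¹ * k' * w = k := by
      calc w⁻¹ * k' * w = u⁻¹ * k * u := by rw [hk'def, hu]; group
        _ = u⁻¹ * (u * k) := by rw [mul_assoc, ((hmemU u).1 huU).2.eq]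
        _ = k := by group
    show w * m = m * w
    have h2 : w⁻¹ * m * w = m := by
      calc w⁻¹ * m * w = (w⁻¹ * k * w) * (w⁻¹ * k' * w) := by rw [hm]; group
        _ = k' * k := by rw [h1]
        _ = m := hkk'.eq.symm
    calc w * m = w * (w⁻¹ * m * w) := by rw [h2]
      _ = m * w := by group
  have hmc : ∀ z ∈ S, Commute z m := by
    by_contra hc
    push Not at hc
    have hle := hmax ⟨m, ⟨a * b, habS, habm⟩, two_of_mul_self hmm hm1, hc⟩
    have hlt : U < S ⊓ centralizer ({m} : Set G) := by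
      refine lt_of_le_of_ne (fun z hz => ⟨((hmemU z).1 hz).1, mem_centralizer_singleton_iff.2
        (((hmemU z).1 hz).2.mul_right (hUk' z hz))⟩) fun e => hwU ?_
      rw [e]; exact ⟨hwS, mem_centralizer_singleton_iff.2 hwm⟩
    exact absurd (Set.ncard_lt_ncard (show (U : Set G) ⊂ _ from SetLike.coe_ssubset_coe.2 hlt)
      (Set.toFinite _)) (by
        rw [← Nat.card_coe_set_eq, ← Nat.card_coe_set_eq]; exact not_lt.2 hle)
  -- `u` centralises `a`
  have huS := ((hmemU u).1 huU).1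
  have hau : Commute u a := by
    have h1 : u⁻¹ * a * u⁻¹⁻¹ ∈ zpowers a := h.conj_mem hk2 hra.2 ((hmemU u).1 huU).2.inv_left
    rw [inv_inv] at h1
    have haa : a * a * (a * a) = 1 := by rw [hak]; exact hkk
    rcases four_cases haa h1 (by
      rw [show u⁻¹ * a * u * (u⁻¹ * a * u) = u⁻¹ * (a * a) * u by group, hak, mul_assoc,
        ← ((hmemU u).1 huU).2.eq, inv_mul_cancel_left]; exact hk1) with e | e
    · show u * a = a * u
      calc u * a = u * (u⁻¹ * a * u) := by rw [e]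
        _ = a * u := by group
    · exfalso
      have h2 : w⁻¹ * (a * b) * w⁻¹⁻¹ ∈ zpowers (a * b) :=
        h.conj_mem (two_of_mul_self hmm hm1) (habm ▸ (root_of_sq (habm.symm ▸ hm1) (by rw [habm]; exact hmm)).2)
          (hwm.inv_left)
      have h3 : w⁻¹ * (a * b) * w⁻¹⁻¹ = b * a⁻¹ := by
        calc w⁻¹ * (a * b) * w⁻¹⁻¹ = (w⁻¹ * a * w) * (u⁻¹ * a * u) := by rw [hbdef, hu]; group
          _ = b * a⁻¹ := by rw [e]
      rw [h3] at h2
      rcases four_cases (by rw [habm]; exact hmm) h2 (by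
        rw [show b * a⁻¹ * (b * a⁻¹) = b * (a⁻¹ * b) * a⁻¹ by group, hab.inv_left.eq,
          show b * (b * a⁻¹) * a⁻¹ = b * b * (a * a)⁻¹ by group, hbk, hak, inv_of_two hk2, ← hkk'.eq]
        exact hm1) with e1 | e1
      · rw [hab.eq] at e1
        have : a⁻¹ = a := mul_left_cancel e1
        exact hk1 (by rw [← hak]; nth_rw 1 [← this]; exact inv_mul_cancel a)
      · rw [mul_inv_rev] at e1
        have : b = b⁻¹ := mul_right_cancel e1
        exact ne_one_of_two hk'2 (by rw [← hbk]; nth_rw 1 [this]; exact inv_mul_cancel b)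
  have hub : Commute u b := by
    have huw : Commute u w := (Commute.refl w).mul_left (Commute.refl w)
    exact (huw.inv_right.mul_right hau).mul_right huw
  have hwa : w * a * w⁻¹ = b := by
    calc w * a * w⁻¹ = w⁻¹ * (u * a) * w⁻¹ := by rw [hu]; group
      _ = w⁻¹ * (a * u) * w⁻¹ := by rw [hau.eq]
      _ = b := by rw [hbdef, hu]; group
  have hwb : w * b * w⁻¹ = a := by rw [hbdef]; group
  have key : ∀ c d : G, c ∈ S → w * c * w⁻¹ = d → w * d * w⁻¹ = c → Commute c d → Commute u c →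
      d * c⁻¹ * (d * c⁻¹) ≠ 1 → c * w * (c * w) ≠ 1 → False := by
    intro c d hc h1 h2 hcd huc hne hy1
    set y := c * w with hy
    have hyS : y ∈ S := mul_mem hc hwS
    have hy2 : y * y = c * d * u := by rw [hy, hu, ← h1]; group
    obtain ⟨r, -, hr⟩ := exists_root hS hyS (fun e => hy1 (by rw [e, mul_one]))
    have hr2 := hr.of_sq hS hyS hy1
    have hcr : Commute c r := by
      obtain ⟨i, hi⟩ := hr2.2
      rw [← hi]
      refine Commute.zpow_right ?_ i
      rw [hy2]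
      exact ((Commute.refl c).mul_right hcd).mul_right huc.symm
    have h3 := h.conj_mem hr.1 hr.2 hcr.inv_left
    rw [inv_inv] at h3
    have h4 : d * c⁻¹ ∈ zpowers y := by
      have : d * c⁻¹ = c⁻¹ * y * c * y⁻¹ := by rw [hy, ← h1]; group
      rw [this]
      exact mul_mem h3 (inv_mem (mem_zpowers y))
    have hcy : Commute (d * c⁻¹) y := by
      obtain ⟨i, hi⟩ := h4
      rw [← hi]; exact Commute.zpow_self y i
    have hcc : Commute (d * c⁻¹) c := hcd.symm.mul_left (Commute.refl c).inv_left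
    have hcw : Commute (d * c⁻¹) w := by
      have := hcc.inv_right.mul_right hcy
      rwa [hy, inv_mul_cancel_left] at this
    have h5 : w * (d * c⁻¹) * w⁻¹ = (d * c⁻¹)⁻¹ := by
      calc w * (d * c⁻¹) * w⁻¹ = (w * d * w⁻¹) * (w * c * w⁻¹)⁻¹ := by group
        _ = c * d⁻¹ := by rw [h1, h2]
        _ = _ := by group
    rw [← hcw.eq, mul_inv_cancel_right] at h5
    exact hne (by nth_rw 1 [h5]; exact inv_mul_cancel _)
  have hsqd : ∀ c d : G, Commute c d → d * c⁻¹ * (d * c⁻¹) = d * d * (c * c)⁻¹ := fun c d hcd => by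
    rw [show d * c⁻¹ * (d * c⁻¹) = d * (c⁻¹ * d) * c⁻¹ by group, hcd.inv_left.eq]; group
  by_cases hy1 : a * w * (a * w) = 1
  · refine key a⁻¹ b⁻¹ (inv_mem haS) (by rw [← hwa]; group) (by rw [← hwb]; group) hab.inv_inv
      hau.inv_right ?_ fun e => hm1 ?_
    · rw [hsqd _ _ hab.inv_inv, show (b⁻¹ * b⁻¹) * (a⁻¹ * a⁻¹)⁻¹ = (b * b)⁻¹ * (a * a) by simp [mul_inv_rev],
        hak, hbk, inv_of_two hk'2, ← hkk'.eq]
      exact hm1
    · have e1 : a * b * u = 1 := by rw [← hy1, hu, ← hwa]; group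
      have e2 : a⁻¹ * b⁻¹ * u = 1 := by rw [← e, hu, ← hwa]; group
      have e3 : a * b = a⁻¹ * b⁻¹ := mul_right_cancel (e1.trans e2.symm)
      rw [← habm]
      nth_rw 1 [e3]
      rw [hab.inv_inv.eq, ← mul_inv_rev]
      exact inv_mul_cancel _
  · refine key a b haS hwa hwb hab hau ?_ hy1
    rw [hsqd a b hab, hak, hbk, inv_of_two hk2, ← hkk'.eq]
    exact hm1

theorem II.zpowers_normal (h : II G) {x c : G} (hx : x ∈ S) (hb : x * x ≠ 1) (hc : c ∈ S) :
    c * x * c⁻¹ ∈ zpowers x := by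
  obtain ⟨k, -, hk⟩ := exists_root hS hx (fun e => hb (by rw [e, mul_one]))
  exact h.conj_mem hk.1 hk.2 (h.roots_central hS hx hb hk hc)

/-- Either the elements of order at least four commute, or those of largest order share their
involution. -/
theorem II.commute_or_root (h : II G) :
    (∀ x ∈ S, x * x ≠ 1 → ∀ y ∈ S, y * y ≠ 1 → Commute x y) ∨
      ∃ z x0 : G, x0 ∈ S ∧ x0 * x0 ≠ 1 ∧ (∀ y ∈ S, y * y ≠ 1 → orderOf y ≤ orderOf x0) ∧
        Root x0 z ∧ ∀ x ∈ S, x * x ≠ 1 → orderOf x = orderOf x0 → Root x z := by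
  classical
  by_cases hne : ∃ x ∈ S, x * x ≠ 1
  swap
  · push Not at hne
    exact Or.inl fun x hx hxx => absurd (hne x hx) hxx
  obtain ⟨x', hx', hx'2⟩ := hne
  haveI : Nonempty {x : G // x ∈ S ∧ x * x ≠ 1} := ⟨⟨x', hx', hx'2⟩⟩
  obtain ⟨⟨x0, hx0, hb0⟩, hmax⟩ := Finite.exists_max
    (fun x : {x : G // x ∈ S ∧ x * x ≠ 1} => orderOf (x : G))
  have hmax' : ∀ y ∈ S, y * y ≠ 1 → orderOf y ≤ orderOf x0 := fun y hy hy2 => hmax ⟨y, hy, hy2⟩
  obtain ⟨z, hzS, hz⟩ := exists_root hS hx0 (fun e => hb0 (by rw [e, mul_one]))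
  by_cases hall : ∀ x ∈ S, x * x ≠ 1 → orderOf x = orderOf x0 → Root x z
  · exact Or.inr ⟨z, x0, hx0, hb0, hmax', hz, hall⟩
  push Not at hall
  obtain ⟨x1, hx1, hb1, ho1, hnot⟩ := hall
  obtain ⟨z1, -, hz1⟩ := exists_root hS hx1 (fun e => hb1 (by rw [e, mul_one]))
  have hz01 : z ≠ z1 := fun e => hnot (e ▸ hz1)
  left
  intro a ha hab a' ha' hab'
  obtain ⟨k, -, hk⟩ := exists_root hS ha (fun e => hab (by rw [e, mul_one]))
  obtain ⟨l, -, hl⟩ := exists_root hS ha' (fun e => hab' (by rw [e, mul_one]))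
  by_cases hkl : k = l
  swap
  · exact commute_of_roots hS h ha hk hl hkl (h.roots_central hS ha hab hk ha') (h.roots_central hS ha' hab' hl ha)
  obtain ⟨b, hbS, hbb, hbo, r, hr, hrk⟩ : ∃ b ∈ S, b * b ≠ 1 ∧ orderOf b = orderOf x0 ∧
      ∃ r, Root b r ∧ r ≠ k := by
    by_cases hzk : z = k
    · exact ⟨x1, hx1, hb1, ho1, z1, hz1, hzk ▸ hz01.symm⟩
    · exact ⟨x0, hx0, hb0, rfl, z, hz, hzk⟩
  have hcb : ∀ c ∈ S, c * c ≠ 1 → Root c k → Commute c b := fun c hc hcc hck =>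
    commute_of_roots hS h hc hck hr hrk.symm (h.roots_central hS hc hcc hck hbS) (h.roots_central hS hbS hbb hr hc)
  have hca := hcb a' ha' hab' (hkl ▸ hl)
  obtain ⟨n, hn⟩ := pow_two_order hS hbS
  obtain ⟨n, rfl⟩ : ∃ i, n = i + 2 := ⟨n - 2, by
    by_contra hlt
    have hd : orderOf b ∣ 2 := by rw [hn]; exact (pow_dvd_pow 2 (by omega : n ≤ 1)).trans (by simp)
    exact hbb (by rw [← sq]; exact orderOf_dvd_iff_pow_eq_one.1 hd)⟩
  obtain ⟨m, hm⟩ := pow_two_order hS ha'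
  have hmn : m ≤ n + 2 := by
    have := hmax' a' ha' hab'
    rw [hm, ← hbo, hn] at this
    exact (Nat.pow_le_pow_iff_right (by norm_num)).1 this
  set N := 2 ^ (n + 1) with hN
  have hbN : b ^ N = r := by
    refine Root.unique ⟨?_, pow_mem (mem_zpowers b) _⟩ hr
    rw [orderOf_pow' _ (pow_ne_zero _ two_ne_zero), hn, Nat.gcd_eq_right (pow_dvd_pow 2 (by omega)),
      pow_succ _ (n + 1), Nat.mul_div_cancel_left _ (pow_pos two_pos _)]
  have haN : a' ^ N = 1 ∨ a' ^ N = k := by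
    by_cases e : a' ^ N = 1
    · exact Or.inl e
    refine Or.inr (Root.unique ⟨two_of_mul_self ?_ e, pow_mem (mem_zpowers a') _⟩ (hkl ▸ hl))
    rw [← pow_add, hN, ← two_mul, ← pow_succ', ← orderOf_dvd_iff_pow_eq_one, hm]
    exact pow_dvd_pow 2 hmn
  set x := a' * b with hx
  have hxN : x ^ N = a' ^ N * r := by rw [hx, hca.mul_pow, hbN]
  have hrr := mul_self_of_two hr.1
  have hkr : Commute k r := by
    obtain ⟨i, hi⟩ := (hkl ▸ hl : Root a' k).2
    obtain ⟨j, hj⟩ := hr.2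
    rw [← hi, ← hj]; exact hca.zpow_zpow i j
  have hx1 : x ^ N ≠ 1 ∧ x ^ N ≠ k ∧ x ^ N * x ^ N = 1 := by
    rcases haN with e | e <;> rw [hxN, e]
    · rw [one_mul]; exact ⟨ne_one_of_two hr.1, hrk, hrr⟩
    · refine ⟨fun e' => hrk ((inv_eq_of_mul_eq_one_right e').symm.trans (inv_of_two hk.1)), fun e' =>
        ne_one_of_two hr.1 (mul_eq_left.1 e'), ?_⟩
      rw [mul_assoc, ← mul_assoc r k r, ← hkr.eq, mul_assoc k r r, hrr, mul_one, mul_self_of_two hk.1]
  have hxS : x ∈ S := mul_mem ha' hbS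
  have hxx : x * x ≠ 1 := fun e => hx1.1 (by
    rw [hN, pow_succ', pow_mul, sq, e, one_pow])
  have hrx : Root x (x ^ N) := ⟨two_of_mul_self hx1.2.2 hx1.1, pow_mem (mem_zpowers x) _⟩
  have hax : Commute a x := commute_of_roots hS h ha hk hrx hx1.2.1.symm
    (h.roots_central hS ha hab hk hxS) (h.roots_central hS hxS hxx hrx ha)
  have := hax.mul_right (hcb a ha hab hk).inv_right
  rwa [hx, mul_inv_cancel_right] at this

omit hS

/-- An abelian subgroup of index two inverted by the involutions outside it. -/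
structure GenDih (S A : Subgroup G) : Prop where
  le : A ≤ S
  comm : ∀ x ∈ A, ∀ y ∈ A, Commute x y
  big : ∃ a ∈ A, a * a ≠ 1
  sq : ∀ y ∈ S, y ∉ A → y * y = 1
  inv : ∀ y ∈ S, y ∉ A → ∀ a ∈ A, y * a * y⁻¹ = a⁻¹
  mul : ∀ y ∈ S, y ∉ A → ∀ y' ∈ S, y' ∉ A → y * y' ∈ A

theorem shape_of_commute {S : Subgroup G}
    (hc : ∀ x ∈ S, x * x ≠ 1 → ∀ y ∈ S, y * y ≠ 1 → Commute x y) :
    (∀ x ∈ S, ∀ y ∈ S, Commute x y) ∨ ∃ A, GenDih S A := by
  classical
  by_cases hex : ∃ x ∈ S, x * x ≠ 1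
  swap
  · push Not at hex
    left
    intro x hx y hy
    have h1 := hex _ (mul_mem hx hy)
    calc x * y = (x * y)⁻¹ := eq_inv_of_mul_eq_one_left h1
      _ = y * x := by
        rw [mul_inv_rev, inv_eq_of_mul_eq_one_right (hex x hx), inv_eq_of_mul_eq_one_right (hex y hy)]
  set B : Set G := {x | x ∈ S ∧ x * x ≠ 1} with hB
  set A := Subgroup.closure B with hA
  have h1 : A ≤ centralizer B := (closure_le _).2 fun x hx => mem_centralizer_iff.2 fun y hy =>
    (hc y hy.1 hy.2 x hx.1 hx.2).eq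
  have h2 : A ≤ centralizer (A : Set G) := (closure_le _).2 fun x hx => mem_centralizer_iff.2 fun y hy =>
    (mem_centralizer_iff.1 (h1 hy) x hx).symm
  have hAS : A ≤ S := (closure_le _).2 fun x hx => hx.1
  have hcomm : ∀ x ∈ A, ∀ y ∈ A, Commute x y := fun x hx y hy => (mem_centralizer_iff.1 (h2 hy) x hx)
  by_cases hSA : S ≤ A
  · exact Or.inl fun x hx y hy => hcomm x (hSA hx) y (hSA hy)
  obtain ⟨a, haS, haa⟩ := hex
  have hsq : ∀ y ∈ S, y ∉ A → y * y = 1 := fun y hy hyA => by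
    by_contra e; exact hyA (Subgroup.subset_closure ⟨hy, e⟩)
  have hinv : ∀ y ∈ S, y ∉ A → ∀ x ∈ A, y * x * y⁻¹ = x⁻¹ := by
    intro y hy hyA x hx
    have hyi : y⁻¹ = y := inv_eq_of_mul_eq_one_right (hsq y hy hyA)
    induction hx using Subgroup.closure_induction with
    | mem g hg =>
      have h3 := hsq _ (mul_mem hy hg.1) fun hm => hyA (by
        simpa using mul_mem hm (inv_mem (Subgroup.subset_closure hg : g ∈ A)))
      refine (eq_inv_of_mul_eq_one_left ?_)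
      rw [hyi, ← h3]; group
    | one => simp
    | mul g g' hg hg' ih ih' =>
      rw [show y * (g * g') * y⁻¹ = (y * g * y⁻¹) * (y * g' * y⁻¹) by group, ih, ih',
        (hcomm g hg g' hg').inv_inv.eq, mul_inv_rev]
    | inv g _ ih => rw [← conj_inv, ih]
  refine Or.inr ⟨A, hAS, hcomm, ⟨a, Subgroup.subset_closure ⟨haS, haa⟩, haa⟩, hsq, hinv, ?_⟩
  intro y hy hyA y' hy' hy'A
  by_contra hne
  have haA : a ∈ A := Subgroup.subset_closure ⟨haS, haa⟩
  have h3 := hinv _ (mul_mem hy hy') hne a haA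
  rw [show y * y' * a * (y * y')⁻¹ = y * (y' * a * y'⁻¹) * y⁻¹ by group, hinv y' hy' hy'A a haA,
    hinv y hy hyA _ (inv_mem haA), inv_inv] at h3
  exact haa (by nth_rw 1 [h3]; exact inv_mul_cancel a)

end Cfsg.Agent.IIGroups
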